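import Mathlib

/-!
Two by two matrices over the field with four elements, coded by numbers below 256; the group
`A₅ ≀ 2` acting on them and the stabilizer `S₅` of the identity matrix.
-/

set_option autoImplicit false
set_option maxRecDepth 100000
set_option synthInstance.maxSize 100000
set_option synthInstance.maxHeartbeats 400000

namespace H39.MS

/-- determinant -/
def dt (a : ℕ) : ℕ := Nat.land (Nat.shiftRight 0x36c9639cc963369c6336c99c9c9c9c9cd22d87782d87d27887d22d78787878784eb11be4b11b4ee41b4eb1e4e4e4e4e4aa55ff0055ffaa00ffaa550000000000 (Nat.mul 2 a)) 3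
/-- trace -/
def tr (a : ℕ) : ℕ := Nat.land (Nat.xor a (Nat.shiftRight a 6)) 3
/-- the quadratic form -/
def qf (a : ℕ) : ℕ := Nat.shiftRight (dt a) 1
/-- the bilinear form -/
def bf (a b : ℕ) : ℕ := Nat.xor (qf (Nat.xor a b)) (Nat.xor (qf a) (qf b))
/-- one column of a linear map -/
def cb (M a j : ℕ) : ℕ :=
  Nat.mul (Nat.land (Nat.shiftRight a j) 1) (Nat.land (Nat.shiftRight M (Nat.mul 8 j)) 255)
/-- a linear map -/
def lm (M a : ℕ) : ℕ :=
  Nat.xor (Nat.xor (Nat.xor (cb M a 0) (cb M a 1)) (Nat.xor (cb M a 2) (cb M a 3)))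
    (Nat.xor (Nat.xor (cb M a 4) (cb M a 5)) (Nat.xor (cb M a 6) (cb M a 7)))
/-- generators of `A₅ ≀ 2` -/
def gn (i : ℕ) : ℕ → ℕ := lm (Nat.shiftRight 0x8c482312080402010e090804e79e8c48030130100c04c040 (Nat.mul 64 i))
/-- conjugates of the first generator -/
def tau (i : ℕ) : ℕ → ℕ := lm (Nat.shiftRight 0xb0dbdd60c04c44833113010ff55f05007099ee7080cc44813212030b6dbd0600f05ff550c04cc44030130100c04c040 (Nat.mul 64 i))
/-- the elements of `S₅` -/
def LL (k : ℕ) : ℕ → ℕ := lm (Nat.shiftRight 0x3221dbb62010b0600e090804e79e8c48d0606db630101321c4480c04799e0709c040080c10200301e0709ee730102331d060db6d102013210b0db6db0c04c84c0709799e0c04c448bdd6b6db799e7e97bdd66db69ee77e97233130109ee7e070c448080c9ee70709d060b6db2030132166bbdb6dff55a5fac040040820300301cc440408aaff0f05c84c0c04b6db0b0d132130106db6d0605aafff55e77999eec4480408e7790709f050aaff102033110201040c30208040123179e7201090703221b66d3020b060844c6ddb0804060d8c48e79e08040e09e9976ddbe79e6b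d6e997dbb679e76bd69070201079e712310e09040c79e78c4832216ddb1030b0605ffab66daa55ddbb02010c08103080400a050c0855ff8844060d08046ddb844cb0602010dbb6322177eeaa559e79f5af0e090c089e798c48221155ff3020a050a050302055ff221177eeffaa79e7f5af2211ffaa1030a050f5af9e79aa5577ee12319e7910309070f5afe79e55ff77ee5ffadbb655ffddbb060d0c08dbb6844c844cb66d040c060d80403020040c0201ddbb55ffdbb65ffa6bd6e79e6ddbe9976bd679e7dbb6e997e997b66d9e796bd6907010309e7912311231e79e302090705ffa6ddbffaaddbb02010804201080400a05040cffaa8844804010300c080201884455ff0c080a05060d040cb66d844cddbbaa55b66d5ffa77ee55ffe79ef5af33111020aafff0505aaf55aa9ee799eef05055aa2030331199eee779ff555aafe070e7792030233199ee799eaaff5aaf66bb6db6aaffa5fac84c04086db60b0d0b0ddb6d080cc84c03011020080cc040a5faaaff6db666bb7e97799eb6dbbdd67e979ee76db6bdd6bdd6db6de7797e9723312030e779e070e070799e1020233166bbb6db55aaa5fac0400c0430100301cc44080c55aa0f05030120300408c0400f05aaff0408cc44c84c080cdb6d0b0da5faff55db6d6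6bb5aafaaff799e99ee3311203055aaf050f050ff553010331199ee9ee755aa5aaf0709e7790408c4480b0d6db60408c84c13211020db6dd0607e97e779db6dbdd623311020799ee070cc440c04ff550f050f0555aa080ccc44a5fa55aab6db66bba0501030ffaa22112211aa552010a050f5af79e7ffaa77ee8c489e790c080e09844cdbb60c08060db0603020b66d32216bd69e79b66de99790703020e79e12310a050804aa5588448844ffaa040c0a05ddbbffaa6ddb5ffaa0502010aa5522118c4879e7040c0e09b06010306ddb32218844aa5508040a0533113010ff55f05007099ee7080cc44813212030b6dbd0600f05ff550c04cc44030130100c04c0408040201008040201 (Nat.mul 64 k))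
/-- a spanning tree -/
def par (k : ℕ) : ℕ := Nat.land (Nat.shiftRight 0x342032402b20294026c025a0249023b022202140211020a01f301f201ea01e901dc01cc01c901c801c401c301ac019a0189017b016201540151014a01330132012a0129011c010c010901080104010300f800f300f200ea00e900e400dc00da00d900d200d100cc00c900c800c400c300ba00b900b400b100b000ac00ab00a800a0009b009a00920091008c008400820081007a0079007400710070006c006b00620061005c00590058005400530050004a0049004400410040003c003b0038003400330032002a0029002400210020001c001b0018001400130012000c000b000a0009000400030002000100000000 (Nat.mul 16 k)) 65535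
/-- distance from the base points -/
def lev (a : ℕ) : ℕ := Nat.land (Nat.shiftRight 0x3050040540500603030630403050050630601070030603050605050605050405044050050340500440050260045040040260025020064006500440066006500553000035450000450025460056000043660075000014003200250033001400040000456400004543654300000000544300000000653256326541564256505430 (Nat.mul 4 a)) 15
/-- the line of a nilpotent matrix -/
def ln (a : ℕ) : Fin 5 := Fin.ofNat 5 (Nat.land (Nat.shiftRight 0x2000000000000000000000004000000000003000000000000000000000000000000000000300000000000200000000000400000000000000000000000000000000000040000000000030000000000000000000000020000000000000000000000000000000000001000000000000000100000000000000010000000000000000 (Nat.mul 4 a)) 15)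
/-- points on the five lines -/
def lp (i : Fin 5) : ℕ := [4, 16, 85, 109, 121].getD i 0
/-- nonzero nilpotent matrices -/
def Nil (a : ℕ) : Prop := tr a = 0 ∧ dt a = 0 ∧ a ≠ 0
/-- the first line -/
def InU (a : ℕ) : Prop := a = 0 ∨ a = 4 ∨ a = 8 ∨ a = 12

instance instDecNil (a : ℕ) : Decidable (Nil a) := inferInstanceAs (Decidable (_ ∧ _))
instance instDecInU (a : ℕ) : Decidable (InU a) := inferInstanceAs (Decidable (_ ∨ _))

/-- additive maps -/
def Lin (f : ℕ → ℕ) : Prop := ∀ a b, f (a ^^^ b) = f a ^^^ f b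

theorem lin_lm (M : ℕ) : Lin (lm M) := by
  have h : ∀ a b j, cb M (a ^^^ b) j = cb M a j ^^^ cb M b j := fun a b j => by
    change ((a ^^^ b) >>> j &&& 1) * _ = (a >>> j &&& 1) * _ ^^^ (b >>> j &&& 1) * _
    rw [Nat.shiftRight_xor_distrib, Nat.and_xor_distrib_right]
    simp only [Nat.and_one_is_mod]
    rcases Nat.mod_two_eq_zero_or_one (a >>> j) with e | e <;>
      rcases Nat.mod_two_eq_zero_or_one (b >>> j) with f | f <;> simp [e, f]
  intro a b
  simp only [lm, h, Nat.xor_eq]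
  ac_rfl

theorem Lin.comp {f g : ℕ → ℕ} (hf : Lin f) (hg : Lin g) : Lin fun a => f (g a) :=
  fun a b => by simp only [hg a b, hf _ _]

theorem Lin.ext {f g : ℕ → ℕ} (hf : Lin f) (hg : Lin g) (h : ∀ j < 8, f (2 ^ j) = g (2 ^ j)) :
    ∀ a < 256, f a = g a := by
  have z : ∀ {f}, Lin f → f 0 = 0 := fun h => by simpa using h 0 0
  intro a
  induction a using Nat.strong_induction_on with
  | _ a ih =>
    intro ha
    rcases (show ∀ a < 256, a = 0 ∨ ∃ j < 8, a ^^^ 2 ^ j < a by decide +kernel) a ha with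
      rfl | ⟨j, hj, e⟩
    · rw [z hf, z hg]
    · rw [← Nat.xor_xor_cancel_right a (2 ^ j), hf, hg, ih _ e (by omega), h j hj]

theorem lin_LL (k : ℕ) : Lin (LL k) := lin_lm _
theorem lin_gn (k : ℕ) : Lin (gn k) := lin_lm _
theorem lin_tau (k : ℕ) : Lin (tau k) := lin_lm _

theorem f_q : ∀ a < 256, (qf a = 0 ∨ qf a = 1) ∧ (qf a = 0 ↔ dt a = 0 ∨ dt a = 1) := by decide +kernel
theorem f_one : ∀ a < 256, LL 0 a = a := by decide +kernel
theorem f_tree : ∀ k < 120, 0 < k → par k / 8 < k ∧ par k % 8 < 6 ∧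
    ∀ a < 256, LL k a = tau (par k % 8) (LL (par k / 8) a) := fun k hk h0 => by
  obtain ⟨a, b, c⟩ := (show ∀ k < 120, 0 < k → par k / 8 < k ∧ par k % 8 < 6 ∧
    ∀ j < 8, LL k (2 ^ j) = tau (par k % 8) (LL (par k / 8) (2 ^ j)) by decide +kernel) k hk h0
  exact ⟨a, b, (lin_LL _).ext ((lin_tau _).comp (lin_LL _)) c⟩
theorem f_tau : (∀ a < 256, gn 0 a = tau 0 a ∧ gn 2 (tau 0 a) = tau 5 (gn 2 a)) ∧
    ∀ m < 4, ∀ a < 256, gn 1 (tau m a) = tau (m + 1) (gn 1 a) := by decide +kernel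
theorem f_orb : ∀ a < 256, a ≠ 0 → qf a = 0 → a = 65 ∨ a = 4 ∨ ∃ i < 6, tau i a < 256 ∧ tau i a ≠ 0 ∧
    dt (tau i a) = dt a ∧ lev (tau i a) < lev a ∧ tau i (tau i a) = a := by decide +kernel
theorem f_65 : ∀ k < 120, LL k 65 = 65 ∧ (LL k 130 = 130 ∨ LL k 130 = 195) := by decide +kernel
theorem f_inj : ∀ k < 120, ∀ l < 120, LL k 4 = LL l 4 → LL k 16 = LL l 16 → LL k 8 = LL l 8 → k = l := by
  decide +kernel
theorem f_kz : ∀ a < 256, dt a = 0 → dt (a ^^^ 65) ≠ 0 → bf a 65 = 0 → tr a = 0 := by decide +kernel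
theorem f_nil : ∀ a < 256, Nil a → ∃ k < 120, LL k a = 4 ∧ (InU a → ∀ b < 256, InU b → InU (LL k b)) := by
  decide +kernel
theorem f_span : ∀ a < 256, tr a = 0 → ∃ b < 256, (tr b = 0 ∧ dt b = 0) ∧ ∃ d < 256, (tr d = 0 ∧ dt d = 0) ∧
    tr (a ^^^ b ^^^ d) = 0 ∧ dt (a ^^^ b ^^^ d) = 0 := by decide +kernel
theorem f_rk : ∀ a < 256, ∃ b < 16, dt b = 0 ∧ dt (a ^^^ b) = 0 := by decide +kernel
theorem f_rho : ∀ a < 256, Nil a → ∀ b < 256, Nil b → Nil (a ^^^ b) →
    ∃ x < 256, Nil x ∧ bf x a = 0 ∧ bf x b ≠ 0 := by decide +kernel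
theorem f_odd : ∀ k < 120, LL k 4 = 4 → LL k 8 = 12 → (∀ a < 256, LL k (LL k a) = a) →
    ∃ m < 120, ∀ a < 256, LL m (LL k a) = gn 0 (LL m a) := fun k hk h1 h2 h3 => by
  obtain ⟨m, hm, e⟩ := (show ∀ k < 120, LL k 4 = 4 → LL k 8 = 12 → LL k (LL k 16) = 16 →
    ∃ m < 120, ∀ j < 8, LL m (LL k (2 ^ j)) = gn 0 (LL m (2 ^ j)) by decide +kernel) k hk h1 h2
    (h3 16 (by norm_num))
  exact ⟨m, hm, ((lin_LL _).comp (lin_LL _)).ext ((lin_gn _).comp (lin_LL _)) e⟩
theorem f_invol : ∀ k < 120, (∀ a < 256, LL k (LL k a) = a) → k = 0 ∨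
    (∃ m < 120, ∀ a < 256, LL m (LL k a) = gn 0 (LL m a)) ∨
    ∀ l ∈ [6, 93, 94], ∃ m < 120, ∀ a < 256, LL m (LL k a) = LL l (LL m a) := fun k hk h => by
  rcases (show ∀ k < 120, LL k (LL k 4) = 4 → LL k (LL k 8) = 8 → LL k (LL k 16) = 16 → k = 0 ∨
    (LL k 130 ≠ 130 ∧ ∃ m < 120, ∀ j < 8, LL m (LL k (2 ^ j)) = gn 0 (LL m (2 ^ j))) ∨
    ∀ l ∈ [6, 93, 94], ∃ m < 120, ∀ j < 8, LL m (LL k (2 ^ j)) = LL l (LL m (2 ^ j)) by
      decide +kernel) k hk (h 4 (by norm_num)) (h 8 (by norm_num)) (h 16 (by norm_num)) with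
    e | ⟨-, m, hm, e⟩ | e
  · exact Or.inl e
  · exact Or.inr (Or.inl ⟨m, hm, ((lin_LL _).comp (lin_LL _)).ext ((lin_gn _).comp (lin_LL _)) e⟩)
  · refine Or.inr (Or.inr fun l hl => ?_)
    obtain ⟨m, hm, e⟩ := e l hl
    exact ⟨m, hm, ((lin_LL _).comp (lin_LL _)).ext ((lin_LL _).comp (lin_LL _)) e⟩
theorem f_fix : ∀ k < 120, LL k 4 = 4 → LL k 8 = 8 → k = 0 ∨ k ∈ [6, 93, 94] := by decide +kernel
theorem f_ne4 : ∀ k ∈ [6, 93, 94], ∀ x < 256, tr x = 0 → x ^^^ LL k x ≠ 4 := by decide +kernel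
theorem f_prod : ∀ k ∈ [6, 93, 94], ∀ l ∈ [6, 93, 94], ∀ m ∈ [6, 93, 94], k = l ∨ m = k ∨ m = l ∨
    ∀ a < 256, LL m a = LL k (LL l a) := by decide +kernel
theorem f_g0 : ∀ x < 256, tr x = 0 → x ^^^ gn 0 x = 0 → ∃ b < 256, tr b = 0 ∧ x = b ^^^ gn 0 b := by
  decide +kernel
theorem f_tr : ∀ a < 256, (tr a = 0 ↔ bf a 65 = 0 ∧ bf a 130 = 0) ∧
    (bf a 65 = 0 → tr a = 0 ∨ tr (a ^^^ 194) = 0) ∧
    (tr a = 0 → qf a = 0 → dt a = 0 ∨ dt (a ^^^ 65) = 0) ∧
    (tr a = 0 → bf a 4 = 0 → bf a 8 = 0 → ∃ e ∈ [0, 65, 130, 195], InU (a ^^^ e)) ∧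
    (InU a → tr a = 0 ∧ dt a = 0) := by decide +kernel
theorem f_ev : ∀ a < 256, Nil a → ∀ b < 256, Nil b → Nil (a ^^^ b) → ∀ k < 120,
    LL k a = a → LL k b = b → LL k 130 = 130 := by decide +kernel
theorem f_ln : ∀ k < 120, (∀ a < 256, Nil a → Nil (LL k a) ∧ ln (LL k a) = ln (LL k (lp (ln a)))) ∧
    (Function.Injective fun i => ln (LL k (lp i))) ∧ ((∀ i, ln (LL k (lp i)) = i) → k = 0) := by
  decide +kernel
theorem f_lp : ∀ i, lp i < 256 ∧ Nil (lp i) ∧ ln (lp i) = i := by decide +kernel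
theorem f_surj : ∀ σ : Equiv.Perm (Fin 5), ∃ k < 120, ∀ i, ln (LL k (lp i)) = σ i := by decide +kernel
theorem f_cen : ∀ x < 256, (∀ a < 256, tr a = 0 → bf x a = 0) → x = 0 ∨ x = 65 ∨ qf x ≠ 0 := by
  decide +kernel
theorem f_U : ∀ a < 13, InU a → ∀ b < 13, InU b → InU (a ^^^ b) := by decide +kernel
theorem f_c60 : Nat.card {a : Fin 256 // dt a = 1} = 60 := by
  rw [Nat.card_eq_fintype_card]; decide +kernel
theorem f_c64 : {a | a < 256 ∧ tr a = 0}.ncard = 64 := by
  rw [show {a | a < 256 ∧ tr a = 0} = ((Finset.range 256).filter (tr · = 0) : Finset ℕ) by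
    ext; simp, Set.ncard_coe_finset]
  decide +kernel

theorem eqns_HT0 : True := by
  have := @dt.eq_1
  have := @tr.eq_1
  have := @qf.eq_1
  have := @bf.eq_1
  have := @cb.eq_1
  have := @lm.eq_1
  have := @gn.eq_1
  have := @tau.eq_1
  have := @LL.eq_1
  have := @par.eq_1
  have := @lev.eq_1
  have := @ln.eq_1
  have := @lp.eq_1
  have := @Nil.eq_1
  have := @InU.eq_1
  have := @Lin.eq_1
  trivial

end H39.MS
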