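import Mathlib
import Cfsg.Agent.Lib.MSub.HT0
import Cfsg.Agent.Lib.MonType.Simple

/-!
Groups with an involution centralizer `2^(1+8).(A₅ ≀ 2)`: coordinates on the extraspecial group.
-/

set_option autoImplicit false

namespace H39.MS

open Subgroup H95

variable {H : Type*} [Group H]

/-- `g` centralizes `z` and acts on the codes as `f` -/
def Act (z : H) (Q : Subgroup H) (c : H → ℕ) (g : H) (f : ℕ → ℕ) : Prop :=
  g * z = z * g ∧ ∀ x ∈ Q, c (g * x * g⁻¹) = f (c x)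

/-- the hypothesis -/
structure HT (z : H) (Q : Subgroup H) (c : H → ℕ) : Prop where
  h : L3 Q z
  lt : ∀ x, c x < 256
  surj : ∀ a < 256, ∃ x ∈ Q, c x = a
  mul : ∀ {x y}, x ∈ Q → y ∈ Q → c (x * y) = c x ^^^ c y
  zero : ∀ {x}, x ∈ Q → (c x = 0 ↔ x = 1 ∨ x = z)
  sq : ∀ {x}, x ∈ Q → (x * x = 1 ↔ qf (c x) = 0)
  gen : ∀ i < 3, ∃ g, Act z Q c g (gn i)
  card : Nat.card (centralizer ({z} : Set H)) ≤ 3686400
  s_conj : ∀ {x}, x ∈ Q → c x = 4 → IsConj z x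
  t_not : ∀ {x}, x ∈ Q → c x = 65 → ¬ IsConj z x
  tQ : ∀ {g t}, g * z * g⁻¹ ∈ Q → c (g * z * g⁻¹) = 4 → t ∈ Q → c t = 65 → g⁻¹ * t * g ∈ Q

theorem ncard_two {α β : Type*} {S : Set α} (hS : S.Finite) (f : α → β) (σ : α → α)
    (hσ : ∀ x ∈ S, σ x ∈ S ∧ σ x ≠ x) (h : ∀ x ∈ S, ∀ y ∈ S, f x = f y ↔ y = x ∨ y = σ x) :
    S.ncard = 2 * (f '' S).ncard := by
  classical
  lift S to Finset α using hS
  rw [← Finset.coe_image, Set.ncard_coe_finset, Set.ncard_coe_finset,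
    Finset.card_eq_sum_card_image f, Finset.sum_congr rfl (g := fun _ => 2), Finset.sum_const,
    smul_eq_mul, mul_comm]
  intro b hb
  obtain ⟨x, hx, rfl⟩ := Finset.mem_image.1 hb
  rw [Finset.card_eq_two]
  refine ⟨x, σ x, (hσ x hx).2.symm, Finset.ext fun y => ?_⟩
  rw [Finset.mem_filter, Finset.mem_insert, Finset.mem_singleton]
  refine ⟨fun e => (h x hx y e.1).1 e.2.symm, fun e => ?_⟩
  have : y ∈ S := by
    rcases e with rfl | rfl
    exacts [hx, (hσ x hx).1]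
  exact ⟨this, ((h x hx y this).2 e).symm⟩

namespace HT

variable {z : H} {Q : Subgroup H} {c : H → ℕ} (T : HT z Q c)
include T

theorem c_one : c 1 = 0 := (T.zero (one_mem _)).2 (Or.inl rfl)

theorem c_z : c z = 0 := (T.zero T.h.mem).2 (Or.inr rfl)

theorem c_mulz {x : H} (hx : x ∈ Q) : c (x * z) = c x := by
  rw [T.mul hx T.h.mem, T.c_z, Nat.xor_zero]

theorem c_inv {x : H} (hx : x ∈ Q) : c x⁻¹ = c x := by
  have := T.mul hx (inv_mem hx)
  rw [mul_inv_cancel, T.c_one] at this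
  exact (Nat.eq_of_xor_eq_zero this.symm).symm

theorem eq_iff {x y : H} (hx : x ∈ Q) (hy : y ∈ Q) : c x = c y ↔ y = x ∨ y = x * z := by
  rw [← Nat.xor_eq_zero_iff, ← T.c_inv hx, ← T.mul (inv_mem hx) hy, T.zero (mul_mem (inv_mem hx) hy),
    inv_mul_eq_one, inv_mul_eq_iff_eq_mul, eq_comm]

theorem ne_one {x : H} (h : c x ≠ 0) : x ≠ 1 := fun e => h (e ▸ T.c_one)

theorem ne_z {x : H} (h : c x ≠ 0) : x ≠ z := fun e => h (e ▸ T.c_z)

theorem conj_mem {g x : H} (hg : g * z = z * g) (hx : x ∈ Q) : g * x * g⁻¹ ∈ Q :=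
  conj_mem_of_normalizer (T.h.norm g hg) hx

theorem conj_mem' {g x : H} (hg : g * z = z * g) (hx : x ∈ Q) : g⁻¹ * x * g ∈ Q :=
  conj_mem_of_normalizer' (T.h.norm g hg) hx

theorem comm_iff {x y : H} (hx : x ∈ Q) (hy : y ∈ Q) : x * y = y * x ↔ bf (c x) (c y) = 0 := by
  have key : ∀ x ∈ Q, (qf (c x) = 0 ∧ x * x = 1) ∨ (qf (c x) = 1 ∧ x * x = z) := fun x hx => by
    rcases (f_q _ (T.lt x)).1 with e | e
    · exact Or.inl ⟨e, (T.sq hx).2 e⟩
    · exact Or.inr ⟨e, (T.h.sq_mem hx).resolve_left fun f => by rw [(T.sq hx).1 f] at e; omega⟩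
  have z1 := T.h.ne_one
  have zz := T.h.sq
  have e0 : bf (c x) (c y) = qf (c (x * y)) ^^^ (qf (c x) ^^^ qf (c y)) := by rw [T.mul hx hy]; rfl
  rw [e0]
  have k1 := key x hx
  have k2 := key y hy
  have k3 := key _ (mul_mem hx hy)
  rcases T.h.comm y hy x hx with e | e
  · have e1 : x * y * (x * y) = x * x * (y * y) := by
      rw [mul_assoc, ← mul_assoc y, e]; group
    rw [e1] at k3
    refine iff_of_true e.symm ?_
    rcases k1 with ⟨a, b⟩ | ⟨a, b⟩ <;> rcases k2 with ⟨d, f⟩ | ⟨d, f⟩ <;>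
      rcases k3 with ⟨g, h⟩ | ⟨g, h⟩ <;> simp_all
  · have e1 : x * y * (x * y) = x * x * (y * y) * z := by
      rw [mul_assoc, ← mul_assoc y, e, mul_assoc (x * y), ← T.h.central y hy]; group
    rw [e1] at k3
    refine iff_of_false (fun f => z1 (by rwa [f, left_eq_mul] at e)) ?_
    rcases k1 with ⟨a, b⟩ | ⟨a, b⟩ <;> rcases k2 with ⟨d, f⟩ | ⟨d, f⟩ <;>
      rcases k3 with ⟨g, h⟩ | ⟨g, h⟩ <;> simp_all

theorem ncard_eq [Finite H] (p : ℕ → Prop) :
    {x | x ∈ Q ∧ p (c x)}.ncard = 2 * {a | a < 256 ∧ p a}.ncard := by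
  rw [ncard_two (S := {x | x ∈ Q ∧ p (c x)}) (Set.toFinite _) c (· * z) (fun x hx => ⟨⟨mul_mem hx.1 T.h.mem, by
    rw [T.c_mulz hx.1]; exact hx.2⟩, by simpa using T.h.ne_one⟩) fun x hx y hy => T.eq_iff hx.1 hy.1]
  congr 2
  ext a
  exact ⟨by rintro ⟨x, hx, rfl⟩; exact ⟨T.lt x, hx.2⟩, fun h => by
    obtain ⟨x, hx, rfl⟩ := T.surj a h.1; exact ⟨x, ⟨hx, h.2⟩, rfl⟩⟩

theorem cardQ [Finite H] : Nat.card Q = 512 := by
  have := T.ncard_eq fun _ => True
  simp only [and_true] at this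
  rw [show {a : ℕ | a < 256} = (Finset.range 256 : Finset ℕ) by ext; simp, Set.ncard_coe_finset,
    Finset.card_range] at this
  exact this

theorem act_mem {q : H} (hq : q ∈ Q) : Act z Q c q id := ⟨T.h.central q hq, fun x hx => by
  rcases T.h.conj hx hq with e | e <;> rw [e]
  exacts [rfl, T.c_mulz hx]⟩

theorem act_mul {g k : H} {f f' : ℕ → ℕ} (a : Act z Q c g f) (b : Act z Q c k f') :
    Act z Q c (g * k) fun u => f (f' u) :=
  ⟨by rw [mul_assoc, b.1, ← mul_assoc, a.1, mul_assoc], fun x hx => by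
    beta_reduce
    rw [← b.2 x hx, ← a.2 _ (T.conj_mem b.1 hx)]; congr 1; group⟩

theorem act_congr {g : H} {f f' : ℕ → ℕ} (a : Act z Q c g f) (h : ∀ u < 256, f u = f' u) :
    Act z Q c g f' := ⟨a.1, fun x hx => (a.2 x hx).trans (h _ (T.lt x))⟩

theorem act_conj {n y : H} {f g g' : ℕ → ℕ} (a : Act z Q c n f) (b : Act z Q c y g)
    (h : ∀ u < 256, f (g u) = g' (f u)) : Act z Q c (n * y * n⁻¹) g' := by
  have n' : n⁻¹ * z = z * n⁻¹ := (Commute.inv_left a.1).eq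
  refine ⟨((Commute.mul_left a.1 b.1).mul_left n').eq, fun x hx => ?_⟩
  have m := T.conj_mem' a.1 hx
  have e1 := a.2 _ m
  have e2 := (T.act_mul a b).2 _ m
  beta_reduce at e2
  rw [h _ (T.lt _), ← e1] at e2
  convert e2 using 2
  · group
  · congr 1; group

theorem act_eq {g : H} {f f' : ℕ → ℕ} (a : Act z Q c g f) (b : Act z Q c g f') {u : ℕ} (h : u < 256) :
    f u = f' u := by
  obtain ⟨x, hx, rfl⟩ := T.surj u h
  exact (a.2 x hx).symm.trans (b.2 x hx)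

theorem mem_of_act [Finite H] {g k : H} {f : ℕ → ℕ} (a : Act z Q c g f) (b : Act z Q c k f) :
    g * k⁻¹ ∈ Q := T.h.mem_of_trivial fun x hx => by
  have m := T.conj_mem' b.1 hx
  have e1 := b.2 _ m
  rw [← a.2 _ m, show k * (k⁻¹ * x * k) * k⁻¹ = x by group] at e1
  have := (T.eq_iff hx (T.conj_mem a.1 m)).1 e1
  simpa only [mul_inv_rev, inv_inv, mul_assoc] using this

theorem mem_of_act' [Finite H] {g : H} (a : Act z Q c g (LL 0)) : g ∈ Q := by
  simpa using T.mem_of_act (T.act_congr a f_one) (T.act_mem (one_mem _))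

theorem exists_conj {x y : H} (hx : x ∈ Q) (hy : y ∈ Q) (e : c x = c y) (h0 : c y ≠ 0) :
    ∃ q ∈ Q, q * x * q⁻¹ = y := by
  rcases (T.eq_iff hx hy).1 e with rfl | rfl
  · exact ⟨1, one_mem _, by simp⟩
  · exact T.h.exists_conj hx (T.ne_one (e ▸ h0)) (T.ne_z (e ▸ h0))

theorem exists_act {g x y : H} {f : ℕ → ℕ} (a : Act z Q c g f) (hx : x ∈ Q) (hy : y ∈ Q)
    (e : f (c x) = c y) (h0 : c y ≠ 0) : ∃ q ∈ Q, Act z Q c (q * g) f ∧ q * g * x * (q * g)⁻¹ = y := by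
  obtain ⟨q, hq, h⟩ := T.exists_conj (T.conj_mem a.1 hx) hy ((a.2 x hx).trans e) h0
  exact ⟨q, hq, (T.act_mul (T.act_mem hq) a :), by rw [← h]; group⟩

section real
variable {N : Subgroup H} (hN : ∀ g, g * z = z * g → ∀ n ∈ N, g * n * g⁻¹ ∈ N)
  (hr : ∃ r ∈ N, Act z Q c r (gn 0))
include hN hr

theorem real_tau : ∀ i < 6, ∃ n ∈ N, Act z Q c n (tau i) := by
  obtain ⟨r, hr, a⟩ := hr
  have a0 := T.act_congr a fun u hu => (f_tau.1 u hu).1
  obtain ⟨g, b⟩ := T.gen 1 (by norm_num)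
  obtain ⟨k, d⟩ := T.gen 2 (by norm_num)
  have key : ∀ i < 5, ∃ n ∈ N, Act z Q c n (tau i) := by
    intro i
    induction i with
    | zero => exact fun _ => ⟨r, hr, a0⟩
    | succ i ih =>
      intro hi
      obtain ⟨n, hn, e⟩ := ih (by omega)
      exact ⟨_, hN g b.1 n hn, T.act_conj b e (f_tau.2 i (by omega))⟩
  intro i hi
  rcases (by omega : i < 5 ∨ i = 5) with h | rfl
  · exact key i h
  · exact ⟨_, hN k d.1 r hr, T.act_conj d a0 fun u hu => (f_tau.1 u hu).2⟩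

theorem real_LL : ∀ k < 120, ∃ n ∈ N, Act z Q c n (LL k) := by
  intro k
  induction k using Nat.strong_induction_on with
  | _ k ih =>
    intro hk
    rcases Nat.eq_zero_or_pos k with rfl | h0
    · exact ⟨1, one_mem _, T.act_congr (T.act_mem (one_mem _)) fun u hu => (f_one u hu).symm⟩
    obtain ⟨h1, h2, h3⟩ := f_tree k hk h0
    obtain ⟨n, hn, a⟩ := ih _ h1 (by omega)
    obtain ⟨m, hm, b⟩ := T.real_tau hN hr _ h2
    exact ⟨_, mul_mem hm hn, T.act_congr (T.act_mul b a) fun u hu => (h3 u hu).symm⟩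

theorem real_orb (a : ℕ) : a < 256 → a ≠ 0 → qf a = 0 → ∃ n ∈ N, ∃ f, Act z Q c n f ∧
    f (if dt a = 0 then 4 else 65) = a ∧ (a = 65 → n = 1) := by
  induction hl : lev a using Nat.strong_induction_on generalizing a with
  | _ l ih =>
    intro h1 h2 h3
    by_cases e : a = 65
    · exact ⟨1, one_mem _, id, T.act_mem (one_mem _), by subst e; rfl, fun _ => rfl⟩
    rcases f_orb a h1 h2 h3 with f | rfl | ⟨i, hi, b1, b2, b3, b4, b5⟩
    · exact absurd f e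
    · exact ⟨1, one_mem _, id, T.act_mem (one_mem _), rfl, fun _ => rfl⟩
    obtain ⟨n, hn, f, d1, d2, -⟩ := ih _ (hl ▸ b4) _ rfl b1 b2 (by rw [qf, b3]; exact h3)
    obtain ⟨m, hm, b⟩ := T.real_tau hN hr _ hi
    exact ⟨_, mul_mem hm hn, _, T.act_mul b d1, by rw [← b3, d2, b5], fun f => absurd f e⟩

end real

theorem top_N : (∀ g, g * z = z * g → ∀ n ∈ (⊤ : Subgroup H), g * n * g⁻¹ ∈ (⊤ : Subgroup H)) ∧
    ∃ r ∈ (⊤ : Subgroup H), Act z Q c r (gn 0) :=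
  ⟨fun _ _ _ _ => mem_top _, (T.gen 0 (by norm_num)).imp fun _ h => ⟨mem_top _, h⟩⟩

theorem isConj_iff {x : H} (hx : x ∈ Q) : IsConj z x ↔ x ≠ 1 ∧ dt (c x) = 0 := by
  by_cases h0 : c x = 0
  · rcases (T.zero hx).1 h0 with rfl | rfl
    · exact iff_of_false (fun e => T.h.ne_one (isConj_one_left.1 e)) fun e => e.1 rfl
    · exact iff_of_true (IsConj.refl _) ⟨T.h.ne_one, by rw [h0]; rfl⟩
  have key : qf (c x) = 0 → ∃ y ∈ Q, c y = (if dt (c x) = 0 then 4 else 65) ∧ IsConj y x := fun h => by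
    obtain ⟨n, -, f, a, e, -⟩ := T.real_orb T.top_N.1 T.top_N.2 _ (T.lt x) h0 h
    obtain ⟨y, hy, ey⟩ := T.surj (if dt (c x) = 0 then 4 else 65) (by split_ifs <;> norm_num)
    obtain ⟨q, -, -, h⟩ := T.exists_act a hy hx (ey ▸ e) h0
    exact ⟨y, hy, ey, isConj_of_conj h⟩
  constructor
  · intro h
    refine ⟨T.ne_one h0, by_contra fun e => ?_⟩
    obtain ⟨y, hy, ey, cy⟩ := key ((T.sq hx).1 (by
      obtain ⟨g, rfl⟩ := _root_.isConj_iff.1 h
      exact (T.h.map_conj g).sq))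
    exact T.t_not hy (by rw [ey, if_neg e]) (h.trans cy.symm)
  · rintro ⟨-, e⟩
    obtain ⟨y, hy, ey, cy⟩ := key (by rw [qf, e]; rfl)
    exact (T.s_conj hy (by rw [ey, if_pos e])).trans cy

theorem exists_LL [Finite H] {g t : H} (hg : g * z = z * g) (ht : t ∈ Q) (ct : c t = 65)
    (e : c (g * t * g⁻¹) = 65) : ∃ k < 120, Act z Q c g (LL k) := by
  have h1 : ∀ a : {a : Fin 256 // dt a = 1}, ∃ n f, Act z Q c n f ∧ f 65 = a.1 ∧
      ((a.1 : ℕ) = 65 → n = 1) := fun a => by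
    obtain ⟨n, -, f, h⟩ := T.real_orb T.top_N.1 T.top_N.2 a.1 a.1.2
      (fun e => by have := a.2; rw [e] at this; exact absurd this (by decide))
      (by rw [qf, a.2]; rfl)
    rw [if_neg (by rw [a.2]; decide)] at h
    exact ⟨n, f, h⟩
  choose n f hn hf h65 using h1
  have h2 : ∀ k : Fin 120, ∃ m, Act z Q c m (LL k) := fun k =>
    (T.real_LL T.top_N.1 T.top_N.2 k k.2).imp fun _ h => h.2
  choose m hm using h2
  have ac : ∀ p : {a : Fin 256 // dt a = 1} × Fin 120 × Q, Act z Q c (n p.1 * (m p.2.1 * p.2.2))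
      fun u => f p.1 (LL p.2.1 u) := fun p =>
    T.act_mul (hn p.1) (T.act_mul (hm p.2.1) (T.act_mem p.2.2.2))
  let Φ : {a : Fin 256 // dt a = 1} × Fin 120 × Q → centralizer ({z} : Set H) := fun p =>
    ⟨_, mem_cent_iff.2 (ac p).1⟩
  have inj : Function.Injective Φ := by
    rintro ⟨a, k, q⟩ ⟨a', k', q'⟩ e
    replace e : n a * (m k * q) = n a' * (m k' * q') := congrArg Subtype.val e
    have e1 := T.act_eq (ac (a, k, q)) (e ▸ ac (a', k', q')) (u := 65) (by norm_num)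
    simp only [(f_65 _ k.2).1, (f_65 _ k'.2).1, hf] at e1
    obtain rfl : a = a' := Subtype.ext (Fin.ext e1)
    replace e := mul_left_cancel e
    have e2 := fun u => T.act_eq (u := u) (T.act_mul (hm k) (T.act_mem q.2))
      (e ▸ T.act_mul (hm k') (T.act_mem q'.2))
    obtain rfl : k = k' := Fin.ext (f_inj _ k.2 _ k'.2 (e2 4 (by norm_num)) (e2 16 (by norm_num))
      (e2 8 (by norm_num)))
    rw [Subtype.ext (mul_left_cancel e)]
  obtain ⟨⟨a, k, q⟩, h⟩ := (inj.bijective_of_nat_card_le (by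
    rw [Nat.card_prod, Nat.card_prod, f_c60, T.cardQ, Nat.card_fin]
    exact T.card)).2 ⟨g, mem_cent_iff.2 hg⟩
  replace h : n a * (m k * q) = g := congrArg Subtype.val h
  have := (h ▸ ac (a, k, q)).2 t ht
  simp only [e, ct, (f_65 _ k.2).1, hf] at this
  rw [h65 a this.symm, one_mul] at h
  exact ⟨k, k.2, h ▸ T.act_mul (hm k) (T.act_mem q.2)⟩

theorem cent_le [Finite H] {N : Subgroup H} (hN : ∀ g, g * z = z * g → ∀ n ∈ N, g * n * g⁻¹ ∈ N)
    (hr : ∃ r ∈ N, Act z Q c r (gn 0)) (hQ : Q ≤ N) : centralizer ({z} : Set H) ≤ N := by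
  intro g hg
  replace hg := mem_cent_iff.1 hg
  obtain ⟨t, ht, ct⟩ := T.surj 65 (by norm_num)
  have m := T.conj_mem hg ht
  have t1 : g * t * g⁻¹ ≠ 1 := by simpa using T.ne_one (x := t) (by omega)
  have nc : ¬ IsConj z (g * t * g⁻¹) := fun e => T.t_not ht ct (e.trans (isConj_of_conj rfl).symm)
  have d : dt (c (g * t * g⁻¹)) ≠ 0 := fun e => nc ((T.isConj_iff m).2 ⟨t1, e⟩)
  obtain ⟨n, hn, f, a, e, -⟩ := T.real_orb hN hr _ (T.lt _) (fun e => d (by rw [e]; rfl))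
    ((T.sq m).1 (by rw [conj_mul, (T.sq ht).2 (by rw [ct]; rfl)]; simp))
  rw [if_neg d, ← ct] at e
  obtain ⟨q, hq, b, e⟩ := T.exists_act a ht m e fun e => d (by rw [e]; rfl)
  obtain ⟨k, hk, a1⟩ := T.exists_LL (g := (q * n)⁻¹ * g)
    ((Commute.inv_left b.1).mul_left hg).eq ht ct (by
      rw [← ct]; congr 1
      calc _ = (q * n)⁻¹ * (g * t * g⁻¹) * (q * n) := by group
        _ = t := by rw [← e]; group)
  obtain ⟨m, hm, a2⟩ := T.real_LL hN hr k hk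
  have := mul_mem (mul_mem (hQ hq) hn) (mul_mem (hQ (T.mem_of_act a1 a2)) hm)
  simpa [mul_assoc] using this

end HT

theorem eqns_HT1 : True := by
  have := @Act.eq_1.{0}
  trivial

end H39.MS
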