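import Mathlib
import Cfsg.Agent.Lib.MSub.HT1
import Cfsg.Agent.Lib.Inv73.Transfer

/-!
Groups with an involution centralizer `2^(1+8).(A₅ ≀ 2)`: the centralizer of a noncentral involution
has a subgroup of index two.
-/

set_option autoImplicit false
set_option linter.unusedSectionVars false

namespace H39.MS

open Subgroup H95

variable {H : Type*} [Group H]

theorem cj_inv {a x y : H} (h : a * x * a⁻¹ = y) : a⁻¹ * y * a⁻¹⁻¹ = x := by rw [← h]; group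

theorem odd_index [Finite H] {P S : Subgroup H} (hP : IsPGroup 2 P) (hS : P ≤ S)
    (h : ∀ k, (∀ p ∈ P, k⁻¹ * p * k ∈ S) → k ∈ S) : Odd S.index := by
  have e := hP.card_modEq_card_fixedPoints (H ⧸ S)
  have : MulAction.fixedPoints P (H ⧸ S) = {((1 : H) : H ⧸ S)} := by
    ext y
    obtain ⟨k, rfl⟩ := QuotientGroup.mk_surjective y
    have k1 : ∀ p : P, p • (k : H ⧸ S) = k ↔ k⁻¹ * (p⁻¹ : P) * k ∈ S := fun p => by
      change ((p * k : H) : H ⧸ S) = k ↔ _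
      rw [QuotientGroup.eq, mul_inv_rev, coe_inv]
    rw [MulAction.mem_fixedPoints, Set.mem_singleton_iff, QuotientGroup.eq, mul_one, inv_mem_iff]
    exact ⟨fun f => h k fun p hp => by simpa using (k1 ⟨p, hp⟩⁻¹).1 (f _), fun f p =>
      (k1 p).2 (mul_mem (mul_mem (inv_mem f) (hS p⁻¹.2)) f)⟩
  rw [this, Nat.card_coe_set_eq, Set.ncard_singleton] at e
  exact Nat.odd_iff.2 e

/-- elements of `S` moving `i` by a power of `w` -/
def stab2 (S : Subgroup H) (i w : H) (hw : ∀ n ∈ S, n * w = w * n) (ww : w * w = 1) : Subgroup H where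
  carrier := {n | n ∈ S ∧ (n * i * n⁻¹ = i ∨ n * i * n⁻¹ = i * w)}
  one_mem' := ⟨one_mem _, Or.inl (by simp)⟩
  mul_mem' := by
    rintro a b ⟨ha, h1⟩ ⟨hb, h2⟩
    have e : a * b * i * (a * b)⁻¹ = a * (b * i * b⁻¹) * a⁻¹ := by group
    have f : a * (i * w) * a⁻¹ = a * i * a⁻¹ * w := by
      rw [← mul_assoc, mul_assoc _ w, ← hw _ (inv_mem ha), ← mul_assoc]
    refine ⟨mul_mem ha hb, ?_⟩
    rcases h2 with h2 | h2 <;> rw [e, h2]
    · exact h1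
    · rw [f]
      rcases h1 with h1 | h1 <;> rw [h1]
      exacts [Or.inr rfl, Or.inl (by rw [mul_assoc, ww, mul_one])]
  inv_mem' := by
    rintro a ⟨ha, h | h⟩
    · exact ⟨inv_mem ha, Or.inl (cj_inv h)⟩
    · refine ⟨inv_mem ha, Or.inr ?_⟩
      calc a⁻¹ * i * a⁻¹⁻¹ = a⁻¹ * (i * w) * (w * a) := by
            simp only [inv_inv, mul_assoc, ← mul_assoc w, ww, one_mul]
        _ = a⁻¹ * (i * w) * a⁻¹⁻¹ * w := by rw [← hw a ha]; group
        _ = i * w := by rw [cj_inv h]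

/-- conjugates of `z` under the centralizer of `t` -/
def KZ (z t y : H) : Prop := ∃ k, k * t = t * k ∧ k * z * k⁻¹ = y

/-- involutions that may lie in the subgroup of index two -/
def Good (z t y : H) : Prop := y = 1 ∨ y = t ∨ IsConj z y ∨ IsConj z (y * t)

/-- independence -/
def Ind (v e e' : H) : Prop := (e ≠ 1 ∧ e ≠ v) ∧ (e' ≠ 1 ∧ e' ≠ v) ∧ e * e' ≠ 1 ∧ e * e' ≠ v

/-- matrices of trace zero -/
def RR (Q : Subgroup H) (t i : H) : Subgroup H := Q ⊓ centralizer {t} ⊓ centralizer {i}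

theorem conj_mul_t {k t : H} (hk : k * t = t * k) (y : H) : k * y * k⁻¹ * t = k * (y * t) * k⁻¹ := by
  rw [mul_assoc, (Commute.inv_left hk).eq]; group

theorem comm_conj {g x y : H} : g * x * g⁻¹ * y = y * (g * x * g⁻¹) ↔
    x * (g⁻¹ * y * g) = g⁻¹ * y * g * x := by
  rw [← (MulAut.conj g⁻¹).injective.eq_iff]
  simp [mul_assoc]

theorem KZ.conj {z t y k : H} (h : KZ z t y) (hk : k * t = t * k) : KZ z t (k * y * k⁻¹) := by
  obtain ⟨g, h1, rfl⟩ := h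
  exact ⟨k * g, (Commute.mul_left hk h1).eq, by group⟩

theorem KZ.conj' {z t y k : H} (h : KZ z t y) (hk : k * t = t * k) : KZ z t (k⁻¹ * y * k) := by
  simpa using h.conj (Commute.inv_left hk).eq

theorem KZ.isConj {z t y : H} (h : KZ z t y) : IsConj z y := by
  obtain ⟨g, -, rfl⟩ := h
  exact isConj_of_conj rfl

theorem Good.conj {z t y k : H} (h : Good z t y) (hk : k * t = t * k) : Good z t (k * y * k⁻¹) := by
  rcases h with rfl | rfl | h | h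
  · exact Or.inl (by simp)
  · exact Or.inr (Or.inl (mul_inv_eq_iff_eq_mul.2 hk))
  · exact Or.inr (Or.inr (Or.inl (h.trans (isConj_of_conj rfl))))
  · exact Or.inr (Or.inr (Or.inr (h.trans (isConj_of_conj (conj_mul_t hk y).symm))))

theorem Good.of_conj {z t y k : H} (h : Good z t (k * y * k⁻¹)) (hk : k * t = t * k) : Good z t y := by
  simpa [mul_assoc] using h.conj (Commute.inv_left hk).eq

/-- the hypothesis with two chosen elements -/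
structure HU (z : H) (Q : Subgroup H) (c : H → ℕ) (t i : H) : Prop extends HT z Q c where
  tm : t ∈ Q
  ct : c t = 65
  im : i ∈ Q
  ci : c i = 130

namespace HU

variable {z t i : H} {Q : Subgroup H} {c : H → ℕ} (T : HU z Q c t i)
include T

/-- the elementary group of order eight -/
def V : Subgroup H where
  carrier := {v | v ∈ Q ∧ InU (c v)}
  one_mem' := ⟨one_mem _, Or.inl T.c_one⟩
  mul_mem' := fun {a b} ha hb => ⟨mul_mem ha.1 hb.1, by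
    rw [T.mul ha.1 hb.1]
    exact f_U _ (by rcases ha.2 with e | e | e | e <;> omega) ha.2 _
      (by rcases hb.2 with e | e | e | e <;> omega) hb.2⟩
  inv_mem' := fun {a} ha => ⟨inv_mem ha.1, (T.c_inv ha.1).symm ▸ ha.2⟩

/-- `g` carries `z` to `v` -/
def Sym (v g : H) : Prop := g * t = t * g ∧ g * z * g⁻¹ = v ∧ ∀ w ∈ T.V, g⁻¹ * w * g ∈ Q

theorem tt : t * t = 1 := (T.sq T.tm).2 (by rw [T.ct]; rfl)

theorem t1 : t ≠ 1 := T.ne_one (by rw [T.ct]; decide)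

theorem tz : t ≠ z := T.ne_z (by rw [T.ct]; decide)

theorem zt : z * t = t * z := (T.h.central t T.tm).symm

theorem ii : i * i = z := (T.h.sq_mem T.im).resolve_left fun e => by
  have := (T.sq T.im).1 e
  rw [T.ci] at this; exact absurd this (by decide)

theorem zV : z ∈ T.V := ⟨T.h.mem, Or.inl T.c_z⟩

theorem mem_RR {x : H} : x ∈ RR Q t i ↔ x ∈ Q ∧ tr (c x) = 0 := by
  rw [RR, mem_inf, mem_inf, and_assoc, mem_cent_iff, mem_cent_iff]
  refine and_congr_right fun hx => ?_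
  rw [T.comm_iff hx T.tm, T.comm_iff hx T.im, T.ct, T.ci, (f_tr _ (T.lt x)).1]

theorem V_le : T.V ≤ RR Q t i := fun v hv =>
  T.mem_RR.2 ⟨hv.1, ((f_tr _ (T.lt v)).2.2.2.2 hv.2).1⟩

theorem V_sq {v : H} (hv : v ∈ T.V) : v * v = 1 :=
  (T.sq hv.1).2 (by rw [qf, ((f_tr _ (T.lt v)).2.2.2.2 hv.2).2]; rfl)

theorem V_comm {v w : H} (hv : v ∈ T.V) (hw : w ∈ T.V) : v * w = w * v := by
  have := T.V_sq (mul_mem hv hw)
  rw [← inv_eq_of_mul_eq_one_right this, mul_inv_rev, inv_eq_of_mul_eq_one_right (T.V_sq hv),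
    inv_eq_of_mul_eq_one_right (T.V_sq hw)]

theorem tR : t ∈ RR Q t i := T.mem_RR.2 ⟨T.tm, by rw [T.ct]; rfl⟩

theorem iR : i ∈ RR Q t i := T.mem_RR.2 ⟨T.im, by rw [T.ci]; rfl⟩

theorem mem_of_code {N : Subgroup H} (hz : z ∈ N) {x y : H} (hx : x ∈ Q) (hy : y ∈ Q) (h : y ∈ N)
    (e : c y = c x) : x ∈ N := by
  rcases (T.eq_iff hy hx).1 e with rfl | rfl
  exacts [h, mul_mem h hz]

theorem kz_not {y : H} (h : KZ z t y) : ¬ IsConj z (y * t) := by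
  obtain ⟨k, hk, rfl⟩ := h
  rw [conj_mul_t hk]
  intro e
  have := ((T.isConj_iff (mul_mem T.h.mem T.tm)).1 (e.trans (isConj_of_conj rfl).symm)).2
  rw [T.mul T.h.mem T.tm, T.c_z, T.ct] at this
  exact absurd this (by decide)

theorem kz_t {y : H} (h : KZ z t y) : y * t = t * y := by
  obtain ⟨k, hk, rfl⟩ := h
  exact ((Commute.mul_left hk T.zt).mul_left (Commute.inv_left hk)).eq

theorem kz_sq {y : H} (h : KZ z t y) : y * y = 1 := by
  obtain ⟨k, -, rfl⟩ := h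
  exact (T.h.map_conj k).sq

theorem kz_nil {y : H} (hy : y ∈ Q) (h : KZ z t y) : tr (c y) = 0 ∧ dt (c y) = 0 := by
  have d := ((T.isConj_iff hy).1 h.isConj).2
  refine ⟨f_kz _ (T.lt y) d (fun e => T.kz_not h ((T.isConj_iff (mul_mem hy T.tm)).2 ⟨fun f => ?_, ?_⟩))
    (T.ct ▸ (T.comm_iff hy T.tm).1 (T.kz_t h)), d⟩
  · rw [eq_inv_of_mul_eq_one_left f, T.c_inv T.tm, T.ct] at d
    exact absurd d (by decide)
  · rwa [T.mul hy T.tm, T.ct]

variable [Finite H]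

theorem exists_S {k : ℕ} (hk : k < 120) : ∃ n, n * t = t * n ∧ Act z Q c n (LL k) := by
  obtain ⟨n, -, a⟩ := T.real_LL T.top_N.1 T.top_N.2 k hk
  obtain ⟨q, -, b, e⟩ := T.exists_act a T.tm T.tm (by rw [T.ct, (f_65 k hk).1]) (by rw [T.ct]; decide)
  exact ⟨_, mul_inv_eq_iff_eq_mul.1 e, b⟩

theorem S_act {n : H} (hz : n * z = z * n) (ht : n * t = t * n) : ∃ k < 120, Act z Q c n (LL k) :=
  T.exists_LL hz T.tm T.ct (by rw [mul_inv_eq_iff_eq_mul.2 ht, T.ct])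

theorem sym4 {s : H} (hs : s ∈ Q) (cs : c s = 4) : ∃ g, T.Sym s g := by
  have hc := T.s_conj hs cs
  obtain ⟨g, rfl⟩ := _root_.isConj_iff.1 hc
  have p := T.h.pair (by rw [T.cardQ]; norm_num) hs (T.ne_z (by omega))
  have ht : t ∈ Q ⊓ Q.map (MulAut.conj g).toMonoidHom :=
    ⟨T.tm, mem_map_conj.2 (T.tQ hs cs T.tm T.ct)⟩
  obtain ⟨n, a⟩ := T.gen 2 (by norm_num)
  obtain ⟨q, -, b, e⟩ := T.exists_act a hs hs (by rw [cs]; rfl) (by omega)
  have w := mul_mem (mem_inf.2 ⟨T.conj_mem b.1 T.tm, conj_mem_of_normalizer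
    (p.h'.norm _ (mul_inv_eq_iff_eq_mul.1 e)) ht.2⟩) ht
  have cw : c (q * n * t * (q * n)⁻¹ * t) = 8 := by
    rw [T.mul (T.conj_mem b.1 T.tm) T.tm, b.2 t T.tm, T.ct]; rfl
  have hV : T.V ≤ Q ⊓ Q.map (MulAut.conj g).toMonoidHom := fun v hv => by
    have k := fun y hy => T.mem_of_code (mem_inf.2 ⟨T.h.mem, p.zQ⟩) (y := y) hv.1 (mem_inf.1 hy).1 hy
    have sm := mem_inf.2 ⟨hs, p.h'.mem⟩
    rcases hv.2 with e | e | e | e
    · exact k 1 (one_mem _) (by rw [e, T.c_one])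
    · exact k _ sm (by rw [e, cs])
    · exact k _ w (by rw [e, cw])
    · exact k _ (mul_mem sm w) (by rw [e, T.mul hs w.1, cs, cw]; rfl)
  obtain ⟨x, hx, ex⟩ := p.exists_conj_cent hc ht T.t1 (T.t_not T.tm T.ct)
  have hx' : x ∈ centralizer {t} := (sup_le inf_le_right inf_le_right : _ ≤ centralizer {t}) hx
  refine ⟨x⁻¹, (Commute.inv_left (mem_cent_iff.1 hx')).eq, cj_inv ex, fun v hv => ?_⟩
  simpa using (p.conj_mem_E ((sup_le_sup inf_le_left inf_le_left : _ ≤ Q ⊔ _) hx) (hV hv)).1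

theorem sym {v : H} (hv : v ∈ T.V) (v1 : v ≠ 1) : ∃ g, T.Sym v g := by
  by_cases h0 : c v = 0
  · obtain rfl := ((T.zero hv.1).1 h0).resolve_left v1
    exact ⟨1, by simp, by simp, fun w hw => by simpa using hw.1⟩
  have := (f_tr _ (T.lt v)).2.2.2.2 hv.2
  obtain ⟨k, hk, e, f⟩ := f_nil _ (T.lt v) ⟨this.1, this.2, h0⟩
  obtain ⟨n, nt, a⟩ := T.exists_S hk
  obtain ⟨g, g1, g2, g3⟩ := T.sym4 (T.conj_mem a.1 hv.1) ((a.2 v hv.1).trans e)
  refine ⟨n⁻¹ * g, ((Commute.inv_left nt).mul_left g1).eq, ?_, fun w hw => ?_⟩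
  · calc _ = n⁻¹ * (g * z * g⁻¹) * n := by group
      _ = v := by rw [g2]; group
  · have := g3 _ ⟨T.conj_mem a.1 hw.1, (a.2 w hw.1).symm ▸ f hv.2 _ (T.lt w) hw.2⟩
    simpa [mul_assoc] using this

theorem kz_of_nil {y : H} (hy : y ∈ Q) (h1 : tr (c y) = 0) (h2 : dt (c y) = 0) (y1 : y ≠ 1) :
    KZ z t y := by
  by_cases h0 : c y = 0
  · obtain rfl := ((T.zero hy).1 h0).resolve_left y1
    exact ⟨1, by simp, by simp⟩
  obtain ⟨k, hk, e, -⟩ := f_nil _ (T.lt y) ⟨h1, h2, h0⟩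
  obtain ⟨n, nt, a⟩ := T.exists_S hk
  obtain ⟨g, g1, g2, -⟩ := T.sym4 (T.conj_mem a.1 hy) ((a.2 y hy).trans e)
  simpa [mul_assoc] using KZ.conj' ⟨g, g1, g2⟩ nt

theorem kz_V {v : H} (hv : v ∈ T.V) (v1 : v ≠ 1) : KZ z t v :=
  have := (f_tr _ (T.lt v)).2.2.2.2 hv.2
  T.kz_of_nil hv.1 this.1 this.2 v1

theorem span {N : Subgroup H} (h : ∀ y, KZ z t y → y ∈ N) : RR Q t i ≤ N := by
  intro x hx
  obtain ⟨hx, e⟩ := T.mem_RR.1 hx
  have k : ∀ y ∈ Q, tr (c y) = 0 ∧ dt (c y) = 0 → y ∈ N := fun y hy e => by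
    by_cases y1 : y = 1
    exacts [y1 ▸ one_mem _, h y (T.kz_of_nil hy e.1 e.2 y1)]
  obtain ⟨_, b1, b2, _, d1, d2, e⟩ := f_span _ (T.lt x) e
  obtain ⟨b, hb, rfl⟩ := T.surj _ b1
  obtain ⟨d, hd, rfl⟩ := T.surj _ d1
  rw [← T.mul hx hb, ← T.mul (mul_mem hx hb) hd] at e
  simpa using mul_mem (mul_mem (k _ (mul_mem (mul_mem hx hb) hd) e) (inv_mem (k d hd d2)))
    (inv_mem (k b hb b2))

theorem good_R {y : H} (hy : y ∈ RR Q t i) (yy : y * y = 1) : Good z t y := by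
  obtain ⟨hy, e⟩ := T.mem_RR.1 hy
  by_cases y1 : y = 1
  · exact Or.inl y1
  by_cases y2 : y = t
  · exact Or.inr (Or.inl y2)
  rcases (f_tr _ (T.lt y)).2.2.1 e ((T.sq hy).1 yy) with f | f
  · exact Or.inr (Or.inr (Or.inl ((T.isConj_iff hy).2 ⟨y1, f⟩)))
  · refine Or.inr (Or.inr (Or.inr ((T.isConj_iff (mul_mem hy T.tm)).2 ⟨fun f => y2 ?_, ?_⟩)))
    · rw [eq_inv_of_mul_eq_one_left f, inv_eq_of_mul_eq_one_right T.tt]
    · rwa [T.mul hy T.tm, T.ct]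

variable {v g e e' : H}

theorem nil_of (S : T.Sym v g) (he : e ∈ T.V) (e1 : e ≠ 1) (ev : e ≠ v) : Nil (c (g⁻¹ * e * g)) := by
  have m := S.2.2 e he
  have := T.kz_nil m ((T.kz_V he e1).conj' S.1)
  refine ⟨this.1, this.2, fun f => ?_⟩
  rcases (T.zero m).1 f with f | f
  · exact e1 (by simpa [mul_assoc] using congrArg (fun x => g * x * g⁻¹) f)
  · exact ev (by rw [← S.2.1, ← f]; group)

theorem j_comm (S : T.Sym v g) {w : H} (hw : w ∈ T.V) : g * i * g⁻¹ * w = w * (g * i * g⁻¹) := by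
  by_cases w1 : w = 1
  · simp [w1]
  have m := S.2.2 w hw
  exact comm_conj.2 (mem_cent_iff.1 (T.mem_RR.2
    ⟨m, (T.kz_nil m ((T.kz_V hw w1).conj' S.1)).1⟩).2).symm

theorem j_sq (S : T.Sym v g) : g * i * g⁻¹ * (g * i * g⁻¹) = v := by rw [conj_mul, T.ii, S.2.1]

theorem j_t (S : T.Sym v g) : g * i * g⁻¹ * t = t * (g * i * g⁻¹) :=
  ((Commute.mul_left S.1 (mem_cent_iff.1 T.iR.1.2)).mul_left (Commute.inv_left S.1)).eq

theorem nil3 (S : T.Sym v g) (he : e ∈ T.V) (he' : e' ∈ T.V) (h3 : e * e' ≠ 1 ∧ e * e' ≠ v) :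
    Nil (c (g⁻¹ * e * g) ^^^ c (g⁻¹ * e' * g)) := by
  have := T.nil_of S (mul_mem he he') h3.1 h3.2
  rwa [show g⁻¹ * (e * e') * g = g⁻¹ * e * g * (g⁻¹ * e' * g) by group,
    T.mul (S.2.2 e he) (S.2.2 e' he')] at this

theorem ev (S : T.Sym v g) (hv : v ∈ T.V) (he : e ∈ T.V) (he' : e' ∈ T.V) (I : Ind v e e')
    {d : H} (dt : d * t = t * d)
    (hd : ∀ w ∈ T.V, d * w = w * d) : d * (g * i * g⁻¹) * d⁻¹ = g * i * g⁻¹ ∨
      d * (g * i * g⁻¹) * d⁻¹ = g * i * g⁻¹ * v := by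
  obtain ⟨h1, h2, h3⟩ := I
  have k : ∀ w ∈ T.V, g⁻¹ * d * g * (g⁻¹ * w * g) * (g⁻¹ * d * g)⁻¹ = g⁻¹ * w * g := fun w hw => by
    calc _ = g⁻¹ * (d * w) * d⁻¹ * g := by group
      _ = _ := by rw [hd w hw]; group
  obtain ⟨l, hl, a⟩ := T.S_act (n := g⁻¹ * d * g) (by
      have := k v hv
      rw [← S.2.1] at this
      simpa [mul_assoc, mul_inv_eq_iff_eq_mul, ← mul_inv_rev] using mul_inv_eq_iff_eq_mul.1 this)
    (((Commute.inv_left S.1).mul_left dt).mul_left S.1).eq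
  have := f_ev _ (T.lt _) (T.nil_of S he h1.1 h1.2) _ (T.lt _) (T.nil_of S he' h2.1 h2.2)
    (T.nil3 S he he' h3) l hl (by rw [← a.2 _ (S.2.2 e he), k e he])
    (by rw [← a.2 _ (S.2.2 e' he'), k e' he'])
  rw [← T.ci, ← a.2 i T.im] at this
  rw [← S.2.1]
  refine ((T.eq_iff T.im (T.conj_mem a.1 T.im)).1 this.symm).imp (fun f => ?_) fun f => ?_
  · exact Eq.trans (by group) (congrArg (fun x => g * x * g⁻¹) f)
  · rw [conj_mul, ← f]; group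

theorem tv (S : T.Sym v g) (he : e ∈ T.V) (he' : e' ∈ T.V) (I : Ind v e e') :
    ∃ x, KZ z t x ∧ x * v = v * x ∧
      x * e = e * x ∧ x * e' * x⁻¹ = e' * v ∧ Good z t (x * e) ∧
      ∀ w ∈ T.V, x * w * x⁻¹ = w ∨ x * w * x⁻¹ = w * v := by
  obtain ⟨h1, h2, h3⟩ := I
  obtain ⟨_, x1, x2, x3, x4⟩ := f_rho _ (T.lt _) (T.nil_of S he h1.1 h1.2) _ (T.lt _)
    (T.nil_of S he' h2.1 h2.2) (T.nil3 S he he' h3)
  obtain ⟨x, hx, rfl⟩ := T.surj _ x1
  have kx := T.kz_of_nil hx x2.1 x2.2.1 (T.ne_one x2.2.2)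
  have c1 := (T.comm_iff hx (S.2.2 e he)).2 x3
  have k : ∀ w, g * x * g⁻¹ * w * (g * x * g⁻¹)⁻¹ = g * (x * (g⁻¹ * w * g) * x⁻¹) * g⁻¹ :=
    fun w => by group
  refine ⟨g * x * g⁻¹, kx.conj S.1, by rw [← S.2.1, conj_mul, conj_mul, T.h.central x hx],
    comm_conj.2 c1, ?_, ?_, fun w hw => ?_⟩
  · rw [k, T.h.conj_of_ne (S.2.2 e' he') hx (mt (T.comm_iff hx (S.2.2 e' he')).1 x4), ← S.2.1]; group
  · have ke := (T.kz_V he h1.1).conj' S.1
    have := (T.good_R (mul_mem (T.mem_RR.2 ⟨hx, x2.1⟩) (T.mem_RR.2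
      ⟨S.2.2 e he, (T.kz_nil (S.2.2 e he) ke).1⟩)) (by
        rw [mul_assoc, ← mul_assoc _ x, ← c1, mul_assoc x, T.kz_sq ke, mul_one, T.kz_sq kx])).conj S.1
    rwa [show g * (x * (g⁻¹ * e * g)) * g⁻¹ = g * x * g⁻¹ * e by group] at this
  · rw [k, ← S.2.1]
    refine (T.h.conj (S.2.2 w hw) hx).imp (fun f => ?_) fun f => ?_ <;> rw [f] <;> group

theorem j_j {w k f f' : H} (S : T.Sym v g) (S' : T.Sym w k) (hv : v ∈ T.V) (hw : w ∈ T.V)
    (he : e ∈ T.V) (he' : e' ∈ T.V) (hf : f ∈ T.V) (hf' : f' ∈ T.V) (I : Ind v e e') (I' : Ind w f f')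
    (h : v ≠ w) : g * i * g⁻¹ * (k * i * k⁻¹) = k * i * k⁻¹ * (g * i * g⁻¹) := by
  have a := T.ev S hv he he' I (T.j_t S') fun _ h => T.j_comm S' h
  have b := T.ev S' hw hf hf' I' (T.j_t S) fun _ h => T.j_comm S h
  have c1 := T.j_comm S hv
  have c2 := T.j_comm S' hw
  have c3 := T.j_comm S' hv
  generalize g * i * g⁻¹ = x at *
  generalize k * i * k⁻¹ = y at *
  rcases a with a | a
  · exact (mul_inv_eq_iff_eq_mul.1 a).symm
  rcases b with b | b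
  · exact mul_inv_eq_iff_eq_mul.1 b
  rw [mul_inv_eq_iff_eq_mul] at a b
  rw [c1, mul_assoc, b, c2, mul_assoc, ← mul_assoc, right_eq_mul] at a
  exact absurd ((eq_inv_of_mul_eq_one_left a).trans (inv_eq_of_mul_eq_one_right (T.V_sq hw))) h

theorem basis : ∃ s ∈ T.V, ∃ s' ∈ T.V, c s = 4 ∧ c s' = 8 ∧ Ind z s s' ∧ Ind z s' s ∧ Ind s z s' ∧
    Ind s s' z ∧ Ind s' z s ∧ Ind s' s z := by
  obtain ⟨s, hs, cs⟩ := T.surj 4 (by norm_num)
  obtain ⟨s', hs', cs'⟩ := T.surj 8 (by norm_num)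
  have k : ∀ {x y}, c x ≠ c y → x ≠ y := fun h e => h (e ▸ rfl)
  have z1 := T.h.ne_one
  refine ⟨s, ⟨hs, Or.inr (Or.inl cs)⟩, s', ⟨hs', Or.inr (Or.inr (Or.inl cs'))⟩, cs, cs', ?_⟩
  refine ⟨⟨⟨k ?_, k ?_⟩, ⟨k ?_, k ?_⟩, k ?_, k ?_⟩, ⟨⟨k ?_, k ?_⟩, ⟨k ?_, k ?_⟩, k ?_, k ?_⟩,
    ⟨⟨z1, k ?_⟩, ⟨k ?_, k ?_⟩, k ?_, k ?_⟩, ⟨⟨k ?_, k ?_⟩, ⟨z1, k ?_⟩, k ?_, k ?_⟩,
    ⟨⟨z1, k ?_⟩, ⟨k ?_, k ?_⟩, k ?_, k ?_⟩, ⟨⟨k ?_, k ?_⟩, ⟨z1, k ?_⟩, k ?_, k ?_⟩⟩ <;>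
  simp only [T.mul, hs, hs', T.h.mem, cs, cs', T.c_one, T.c_z] <;> decide

theorem act_invol {x : H} {f : ℕ → ℕ} (a : Act z Q c x f) (xx : x * x = 1) : ∀ u < 256, f (f u) = u :=
  fun _ hu => T.act_eq (T.act_mul a a) (xx ▸ T.act_mem (one_mem _)) hu

theorem exists_r : ∃ r, KZ z t r ∧ Act z Q c r (gn 0) ∧ Good z t (r * z) := by
  obtain ⟨s, hs, s', hs', cs, cs', -, -, I, -⟩ := T.basis
  obtain ⟨g, S⟩ := T.sym hs (T.ne_one (by omega))
  obtain ⟨x, kx, x1, x2, x3, x4, -⟩ := T.tv S T.zV hs' I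
  obtain ⟨k, hk, a⟩ := T.S_act x2 (T.kz_t kx)
  obtain ⟨m, hm, e⟩ := f_odd k hk (by rw [← cs, ← a.2 s hs.1, mul_inv_eq_iff_eq_mul.2 x1])
    (by rw [← cs', ← a.2 s' hs'.1, x3, T.mul hs'.1 hs.1, cs, cs']; rfl) (T.act_invol a (T.kz_sq kx))
  obtain ⟨n, nt, b⟩ := T.exists_S hm
  exact ⟨_, kx.conj nt, T.act_conj b a e, by rw [conj_mul_t b.1]; exact x4.conj nt⟩

theorem act_fix {d : H} (dt : d * t = t * d) (hd : ∀ w ∈ T.V, d * w = w * d) :
    ∃ k, (k = 0 ∨ k ∈ [6, 93, 94]) ∧ Act z Q c d (LL k) := by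
  obtain ⟨s, hs, s', hs', cs, cs', -⟩ := T.basis
  obtain ⟨k, hk, a⟩ := T.S_act (hd z T.zV) dt
  exact ⟨k, f_fix k hk (by rw [← cs, ← a.2 s hs.1, mul_inv_eq_iff_eq_mul.2 (hd s hs)])
    (by rw [← cs', ← a.2 s' hs'.1, mul_inv_eq_iff_eq_mul.2 (hd s' hs')]), a⟩

theorem act_j (S : T.Sym v g) (h : c v ≠ 0) : ∃ k ∈ [6, 93, 94], Act z Q c (g * i * g⁻¹) (LL k) := by
  obtain ⟨k, rfl | hk, a⟩ := T.act_fix (T.j_t S) fun _ h => T.j_comm S h
  · have := T.h.sq_mem (T.mem_of_act' a)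
    rw [T.j_sq S] at this
    exact absurd this (not_or.2 ⟨T.ne_one h, T.ne_z h⟩)
  · exact ⟨k, hk, a⟩

theorem sym_one : T.Sym z 1 := ⟨by simp, by simp, fun w hw => by simpa using hw.1⟩

theorem exists_u : ∃ u ∈ Q, c u = 194 ∧ u * t = t * u ∧ u * u = 1 ∧ u * i * u⁻¹ = i * z ∧
    ¬ Good z t u := by
  obtain ⟨u, hu, cu⟩ := T.surj 194 (by norm_num)
  refine ⟨u, hu, cu, (T.comm_iff hu T.tm).2 (by rw [cu, T.ct]; rfl), (T.sq hu).2 (by rw [cu]; rfl),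
    T.h.conj_of_ne T.im hu (mt (T.comm_iff hu T.im).1 (by rw [cu, T.ci]; decide)), ?_⟩
  rintro (e | e | e | e)
  · exact T.ne_one (by omega) e
  · have := T.ct; rw [← e] at this; omega
  · have := ((T.isConj_iff hu).1 e).2
    rw [cu] at this; exact absurd this (by decide)
  · have := ((T.isConj_iff (mul_mem hu T.tm)).1 e).2
    rw [T.mul hu T.tm, cu, T.ct] at this; exact absurd this (by decide)

theorem exists_index_two : ∃ N : Subgroup (centralizer ({t} : Set H)), N.Normal ∧ N.index = 2 ∧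
    ∃ u : centralizer ({t} : Set H), (u : H) ∈ Q ∧ c u = 194 ∧ u ∉ N := by
  obtain ⟨u, hu, cu, ut, uu, ui, ug⟩ := T.exists_u
  obtain ⟨r, kr, ar, gr⟩ := T.exists_r
  have zz := T.h.sq
  have z1 := T.h.ne_one
  have it : c (i * t) = 195 := by rw [T.mul T.im T.tm, T.ci, T.ct]; rfl
  have k195 : ∀ {y}, y ∈ Q → c y = 195 → y = i * t ∨ y = i * (t * z) := fun hy e => by
    rw [← mul_assoc]; exact (T.eq_iff (mul_mem T.im T.tm) hy).1 (it.trans e.symm)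
  obtain ⟨w, hw, ri⟩ : ∃ w, (w = t ∨ w = t * z) ∧ r * i * r⁻¹ = i * w := by
    rcases k195 (T.conj_mem ar.1 T.im) (by rw [ar.2 i T.im, T.ci]; rfl) with e | e
    exacts [⟨_, Or.inl rfl, e⟩, ⟨_, Or.inr rfl, e⟩]
  have wQ : w ∈ Q ∧ c w = 65 := by
    rcases hw with rfl | rfl
    exacts [⟨T.tm, T.ct⟩, ⟨mul_mem T.tm T.h.mem, (T.c_mulz T.tm).trans T.ct⟩]
  have w1 : w ≠ 1 := T.ne_one (by omega)
  have wz : w ≠ z := T.ne_z (by omega)
  have ww : w * w = 1 := (T.sq wQ.1).2 (by rw [wQ.2]; rfl)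
  set S : Subgroup H := centralizer {z} ⊓ centralizer {t} with hS
  have mS : ∀ {n}, n ∈ S ↔ n * z = z * n ∧ n * t = t * n := by
    intro n; rw [hS, mem_inf, mem_cent_iff, mem_cent_iff]
  have nw : ∀ n ∈ S, n * w = w * n := fun n hn => by
    rcases hw with rfl | rfl
    exacts [(mS.1 hn).2, (Commute.mul_right (mS.1 hn).2 (mS.1 hn).1).eq]
  set C := stab2 S i w nw ww with hC
  have mC : ∀ {n}, n ∈ C ↔ n ∈ S ∧ (n * i * n⁻¹ = i ∨ n * i * n⁻¹ = i * w) := Iff.rfl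
  have uS : u ∈ S := mS.2 ⟨T.h.central u hu, ut⟩
  have ix : C.relIndex S = 2 := index_eq_two_iff.2 ⟨⟨u, uS⟩, fun b => by
    have hb := mS.1 b.2
    have e : (b : H) * u * i * (b * u : H)⁻¹ = b * i * (b : H)⁻¹ * z := by
      rw [conj_mul_t hb.1, ← ui]; group
    rw [mem_subgroupOf, mem_subgroupOf, mC, mC, coe_mul, e, and_iff_right (mul_mem b.2 uS),
      and_iff_right b.2]
    obtain ⟨k, hk, a⟩ := T.S_act hb.1 hb.2
    have m := T.conj_mem hb.1 T.im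
    have : (b : H) * i * (b : H)⁻¹ = i ∨ (b : H) * i * (b : H)⁻¹ = i * z ∨
        (b : H) * i * (b : H)⁻¹ = i * w ∨ (b : H) * i * (b : H)⁻¹ = i * w * z := by
      rw [← or_assoc, ← T.eq_iff T.im m, ← T.eq_iff (mul_mem T.im wQ.1) m, T.mul T.im wQ.1,
        a.2 i T.im, T.ci, wQ.2]
      exact (f_65 k hk).2.imp Eq.symm Eq.symm
    have w2 : w * z ≠ 1 := fun e => wz (mul_right_cancel (e.trans zz.symm))
    rcases this with f | f | f | f <;> rw [f] <;>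
      simp [Xor, mul_assoc, zz, z1, w1, wz.symm, w2]⟩
  have nC : ∀ n ∈ S, ∀ y ∈ C, n * y * n⁻¹ ∈ C := fun n hn y hy =>
    (normal_of_index_eq_two ix).conj_mem ⟨y, hy.1⟩ hy ⟨n, hn⟩
  have CQ : ∀ x ∈ C, x ∈ Q → x ∈ RR Q t i := fun x hx xq =>
    ⟨⟨xq, hx.1.2⟩, mem_cent_iff.2 (mul_inv_eq_iff_eq_mul.1 (hx.2.resolve_right fun e => by
      rcases T.h.conj T.im xq with f | f <;> rw [e] at f
      exacts [w1 (mul_eq_left.1 f), wz (mul_left_cancel f)]))⟩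
  have good : ∀ y ∈ C, y * y = 1 → Good z t y := fun y hy yy => by
    obtain ⟨k, hk, a⟩ := T.S_act (mS.1 hy.1).1 (mS.1 hy.1).2
    have step : ∀ {m : ℕ} {f : ℕ → ℕ} {j : H}, m < 120 → (∀ u < 256, LL m (LL k u) = f (LL m u)) →
        j ∈ C → Act z Q c j f → (∀ x ∈ Q, tr (c x) = 0 → x * j * (x * j) = 1 → Good z t (x * j)) →
        Good z t y := fun {m f j} hm e hj aj h => by
      obtain ⟨n, nt, b⟩ := T.exists_S hm
      have := T.mem_RR.1 (CQ _ (mul_mem (nC n (mS.2 ⟨b.1, nt⟩) y hy) (inv_mem hj))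
        (T.mem_of_act (T.act_conj b a e) aj))
      refine Good.of_conj ?_ nt
      simpa using h _ this.1 this.2 (by rw [inv_mul_cancel_right, conj_mul, yy]; simp)
    rcases f_invol k hk (T.act_invol a yy) with rfl | ⟨m, hm, e⟩ | e
    · exact T.good_R (CQ y hy (T.mem_of_act' a)) yy
    · have rr := T.kz_sq kr
      refine step hm e ⟨mS.2 ⟨ar.1, T.kz_t kr⟩, Or.inr ri⟩ ar fun x hx tx xx => ?_
      have : x * (r * x * r⁻¹) = 1 := by rw [← xx, inv_eq_of_mul_eq_one_right rr]; group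
      obtain ⟨_, b1, b2, e⟩ := f_g0 _ (T.lt x) tx (by
        rw [← ar.2 x hx, ← T.mul hx (T.conj_mem ar.1 hx), this, T.c_one])
      obtain ⟨b, hb, rfl⟩ := T.surj _ b1
      have bt := mem_cent_iff.1 (T.mem_RR.2 ⟨hb, b2⟩).1.2
      have m := T.conj_mem ar.1 (inv_mem hb)
      rcases (T.eq_iff (mul_mem hb m) hx).1 (by
        rw [T.mul hb m, ar.2 _ (inv_mem hb), T.c_inv hb, e]) with rfl | rfl
      · simpa [mul_assoc] using Good.conj (Or.inr (Or.inr (Or.inl kr.isConj))) bt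
      · have := gr.conj bt
        rw [← conj_mul_t (T.h.central b hb)] at this
        simpa [mul_assoc, ← ar.1] using this
    · obtain ⟨s, hs, s', hs', cs, cs', I, -, I', -⟩ := T.basis
      obtain ⟨g, S⟩ := T.sym hs (T.ne_one (by omega))
      obtain ⟨l, hl, aj⟩ := T.act_j S (by omega)
      obtain ⟨m, hm, e⟩ := e l hl
      have ji := T.j_j S T.sym_one hs T.zV T.zV hs' hs hs' I' I (T.ne_z (by omega))
      rw [one_mul, inv_one, mul_one] at ji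
      refine step hm e ⟨mS.2 ⟨aj.1, T.j_t S⟩, Or.inl (mul_inv_eq_iff_eq_mul.2 ji)⟩ aj
        fun x hx tx xx => absurd ?_ (f_ne4 l hl _ (T.lt x) tx)
      have jj := T.j_sq S
      generalize g * i * g⁻¹ = j at *
      rw [← aj.2 x hx, ← T.mul hx (T.conj_mem aj.1 hx), ← cs, ← T.c_inv hs.1, ← jj]
      congr 1
      rw [eq_inv_iff_mul_eq_one, ← xx]; group
  obtain ⟨N, h1, h2, h3⟩ := H73.thompson_transfer (S.subgroupOf (centralizer {t}))
    (C.subgroupOf (centralizer {t})) (odd_index (P := Q.subgroupOf _) T.h.isPGroup.comap_subtype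
      (fun q hq => ⟨T.h.le_centralizer hq, q.2⟩) fun k hk => ⟨mem_cent_iff.2 (by
        have ky : KZ z t (k * z * (k : H)⁻¹) := ⟨k, mem_cent_iff.1 k.2, rfl⟩
        have hc : ∀ a ∈ Q, a * t = t * a → a * (k * z * (k : H)⁻¹) = k * z * (k : H)⁻¹ * a :=
          fun a ha e => (comm_conj.2 (mem_cent_iff.1 (hk ⟨a, mem_cent_iff.2 e⟩ ha).1).symm).symm
        rcases T.h.mem_of_centralizes T.tm T.tt (T.h.mem_of_trivial (T.h.conj_of_centralizes T.tm T.tt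
          (T.h.norm _ (hc z T.h.mem T.zt).symm) hc)) hc with e | e | e | e
        · exact absurd e (T.h.map_conj _).ne_one
        · exact mul_inv_eq_iff_eq_mul.1 e
        · exact absurd (e ▸ ky.isConj) (T.t_not T.tm T.ct)
        · exact absurd (by rw [e, mul_assoc, T.tt, mul_one]) (T.kz_not ky)), k.2⟩)
    ((relIndex_subgroupOf inf_le_right).trans ix) ⟨u, mem_cent_iff.2 ut⟩
    (orderOf_eq_two_of (Subtype.ext uu) fun e => T.ne_one (x := u) (by omega) (congrArg Subtype.val e))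
    fun g hg => ug ((good _ hg (by simp [conj_mul, uu])).of_conj (mem_cent_iff.1 g.2))
  exact ⟨N, h1, h2, _, hu, cu, h3⟩

end HU

theorem eqns_HT2 : True := by
  have := @KZ.eq_1.{0}
  have := @Good.eq_1.{0}
  have := @Ind.eq_1.{0}
  have := @RR.eq_1.{0}
  have := @stab2.eq_1.{0}
  have := @HU.V.eq_1.{0}
  have := @HU.Sym.eq_1.{0}
  trivial

end H39.MS
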