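import Mathlib
import Cfsg.Agent.Lib.MSub.HT2

/-!
Homomorphisms from relations; the action on an elementary group of order eight; central quotients of
order two.
-/

set_option autoImplicit false

namespace H39.MS

open Subgroup H95 Matrix

theorem exists_hom_rel {A B : Type*} [Group A] [Monoid B] (R : A → B → Prop) (ex : ∀ a, ∃ b, R a b)
    (uq : ∀ a b b', R a b → R a b' → b = b') (one : R 1 1)
    (mul : ∀ a a' b b', R a b → R a' b' → R (a * a') (b * b')) :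
    ∃ φ : A →* B, ∀ a b, φ a = b ↔ R a b := by
  choose f hf using ex
  exact ⟨⟨⟨f, uq _ _ _ (hf 1) one⟩, fun a a' => uq _ _ _ (hf _) (mul _ _ _ _ (hf a) (hf a'))⟩,
    fun a b => ⟨fun e => e ▸ hf a, uq _ _ _ (hf a)⟩⟩

variable {H J : Type*} [Group H] [Group J]

theorem pow3_add {n : ℕ} [NeZero n] {x y w : J} (hx : x ^ n = 1) (hy : y ^ n = 1) (hw : w ^ n = 1)
    (xy : Commute x y) (xw : Commute x w) (yw : Commute y w) (a b d a' b' d' : ZMod n) :
    x ^ (a + a').val * y ^ (b + b').val * w ^ (d + d').val =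
      x ^ a.val * y ^ b.val * w ^ d.val * (x ^ a'.val * y ^ b'.val * w ^ d'.val) := by
  simp only [ZMod.val_add, ← pow_eq_pow_mod _ hx, ← pow_eq_pow_mod _ hy, ← pow_eq_pow_mod _ hw, pow_add]
  rw [((xw.symm.pow_pow _ _).mul_right (yw.symm.pow_pow _ _)).mul_mul_mul_comm,
    (xy.symm.pow_pow _ _).mul_mul_mul_comm]

/-- coordinates on an elementary group of order eight -/
def e8 (b : Fin 3 → J) (v : Fin 3 → ZMod 2) : J := b 0 ^ (v 0).val * b 1 ^ (v 1).val * b 2 ^ (v 2).val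

theorem e8_add {b : Fin 3 → J} (sq : ∀ k, b k ^ 2 = 1) (cm : ∀ k l, Commute (b k) (b l))
    (v w : Fin 3 → ZMod 2) : e8 b (v + w) = e8 b v * e8 b w :=
  pow3_add (sq 0) (sq 1) (sq 2) (cm _ _) (cm _ _) (cm _ _) _ _ _ _ _ _

theorem e8_single (b : Fin 3 → J) (n : Fin 3) : e8 b (Pi.single n 1) = b n := by
  fin_cases n <;> simp [e8, ZMod.val_one]

theorem exists_psi {b : Fin 3 → J} (sq : ∀ k, b k ^ 2 = 1) (cm : ∀ k l, Commute (b k) (b l))
    (inj : ∀ v, e8 b v = 1 → v = 0) {M : Subgroup J}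
    (hM : ∀ m ∈ M, ∀ v, ∃ v', m * e8 b v * m⁻¹ = e8 b v')
    (tv : ∀ k l, k ≠ l → ∃ m ∈ M, ∀ n, m * b n * m⁻¹ = if n = l then b l * b k else b n) :
    ∃ ψ : M →* GL (Fin 3) (ZMod 2), Function.Surjective ψ ∧
      ∀ m, ψ m = 1 ↔ ∀ k, (m : J) * b k = b k * m := by
  have add := e8_add sq cm
  let E : Multiplicative (Fin 3 → ZMod 2) →* J := MonoidHom.mk' (fun v => e8 b v.toAdd) add
  have inj' : Function.Injective (e8 b) := (injective_iff_map_eq_one E).2 inj
  have ns : ∀ (n : ℕ) v, e8 b (n • v) = e8 b v ^ n := fun n v => map_pow E (.ofAdd v) n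
  have sg := e8_single b
  have bas : ∀ (m : J) (A : Matrix (Fin 3) (Fin 3) (ZMod 2)),
      (∀ n, m * b n * m⁻¹ = e8 b (A *ᵥ Pi.single n 1)) → ∀ v, m * e8 b v * m⁻¹ = e8 b (A *ᵥ v) := by
    intro m A h v
    have e : ∀ v : Fin 3 → ZMod 2, v = (v 0).val • Pi.single 0 1 + (v 1).val • Pi.single 1 1 +
      (v 2).val • Pi.single 2 1 := by decide +kernel
    conv_rhs => rw [e v]
    simp only [mulVec_add, mulVec_smul, add, ns, ← h, conj_pow, conj_mul]
    rfl
  obtain ⟨φ, hφ⟩ := exists_hom_rel (fun (m : M) (A : Matrix (Fin 3) (Fin 3) (ZMod 2)) =>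
    ∀ v, (m : J) * e8 b v * (m : J)⁻¹ = e8 b (A *ᵥ v)) (fun m => by
      choose F hF using hM m m.2
      refine ⟨LinearMap.toMatrix' ((AddMonoidHom.mk' F fun v w => inj' ?_).toZModLinearMap 2),
        fun v => ?_⟩
      · rw [add, ← hF, ← hF, ← hF, add, conj_mul]
      · rw [LinearMap.toMatrix'_mulVec]; exact hF v)
    (fun m A B h h' => toLin'.injective (LinearMap.ext fun v => inj' ((h v).symm.trans (h' v))))
    (fun v => by simp) fun m m' A B h h' v => by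
      rw [← mulVec_mulVec, ← h, ← h', coe_mul]; group
  have z1 : ∀ a : ZMod 2, a ≠ 0 → 1 = a := by decide
  have z2 : ∀ a : ZMod 2, a = 0 ∨ a = 1 := by decide
  have z3 : ∀ k l n : Fin 3, transvection k l (1 : ZMod 2) *ᵥ Pi.single n 1 =
      if n = l then Pi.single l 1 + Pi.single k 1 else Pi.single n 1 := by decide +kernel
  refine ⟨φ.toHomUnits, fun A => ?_, fun m => ?_⟩
  · have : Fact (Nat.Prime 2) := ⟨Nat.prime_two⟩
    obtain ⟨m, hm⟩ := diagonal_transvection_induction_of_det_ne_zero (fun A => ∃ m, φ m = A) A.1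
      A.det_ne_zero (fun D hD => ⟨1, by
        rw [map_one, ← diagonal_one]
        rw [det_diagonal, Finset.prod_ne_zero_iff] at hD
        exact congrArg _ (funext fun k => z1 _ (hD k (Finset.mem_univ k)))⟩)
      (by
        rintro ⟨k, l, h, a⟩
        rcases z2 a with rfl | rfl
        · exact ⟨1, by simp [TransvectionStruct.toMatrix]⟩
        obtain ⟨m, hm, e⟩ := tv k l h
        refine ⟨⟨m, hm⟩, (hφ _ _).2 (bas _ _ fun n => ?_)⟩
        rw [e, TransvectionStruct.toMatrix, z3]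
        split_ifs <;> simp only [add, sg])
      (by rintro _ _ - - ⟨m, rfl⟩ ⟨n, rfl⟩; exact ⟨m * n, map_mul _ _ _⟩)
    exact ⟨m, Units.ext hm⟩
  · rw [Units.ext_iff, MonoidHom.coe_toHomUnits, Units.val_one, hφ]
    exact ⟨fun h k => by
      simpa only [one_mulVec, sg, mul_inv_eq_iff_eq_mul] using h (Pi.single k 1), fun h =>
      bas _ _ fun n => by rw [one_mulVec, sg, h, mul_inv_cancel_right]⟩

/-- `P` is the projection of `K` to its quotient by `t` -/
structure Cov (K : Subgroup H) (t : H) (P : H → J) : Prop where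
  mul : ∀ {x y}, x ∈ K → y ∈ K → P (x * y) = P x * P y
  surj : ∀ j, ∃ x ∈ K, P x = j
  ker : ∀ {x}, x ∈ K → (P x = 1 ↔ x = 1 ∨ x = t)

theorem exists_cov {K : Subgroup H} {t : H} (p : K →* J) (hs : Function.Surjective p)
    (hk : ∀ x, p x = 1 ↔ (x : H) = 1 ∨ (x : H) = t) : ∃ P : H → J, Cov K t P := by
  classical
  refine ⟨fun x => if h : x ∈ K then p ⟨x, h⟩ else 1, fun {x y} hx hy => ?_, fun j => ?_,
    fun {x} hx => ?_⟩
  · rw [dif_pos hx, dif_pos hy, dif_pos (mul_mem hx hy), ← map_mul]; rfl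
  · obtain ⟨x, rfl⟩ := hs j
    exact ⟨x, x.2, dif_pos x.2⟩
  · rw [dif_pos hx, hk]

namespace Cov

variable {K : Subgroup H} {t : H} {P : H → J} (C : Cov K t P)
include C

theorem one : P 1 = 1 := (C.ker (one_mem _)).2 (Or.inl rfl)

theorem inv {x : H} (hx : x ∈ K) : P x⁻¹ = (P x)⁻¹ :=
  eq_inv_of_mul_eq_one_left (by rw [← C.mul (inv_mem hx) hx, inv_mul_cancel, C.one])

theorem pow {x : H} (hx : x ∈ K) (n : ℕ) : P (x ^ n) = P x ^ n := by
  induction n with
  | zero => simpa using C.one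
  | succ n ih => rw [pow_succ, C.mul (pow_mem hx n) hx, ih, pow_succ]

theorem conj {x y : H} (hx : x ∈ K) (hy : y ∈ K) : P (x * y * x⁻¹) = P x * P y * (P x)⁻¹ := by
  rw [C.mul (mul_mem hx hy) (inv_mem hx), C.mul hx hy, C.inv hx]

theorem eq_iff {x y : H} (hx : x ∈ K) (hy : y ∈ K) : P x = P y ↔ y = x ∨ y = x * t := by
  rw [← inv_mul_eq_one, ← C.inv hx, ← C.mul (inv_mem hx) hy, C.ker (mul_mem (inv_mem hx) hy),
    inv_mul_eq_one, inv_mul_eq_iff_eq_mul, eq_comm]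

theorem comm {x y : H} (hx : x ∈ K) (hy : y ∈ K) (h : x * y = y * x) : P x * P y = P y * P x := by
  rw [← C.mul hx hy, h, C.mul hy hx]

/-- the image of a subgroup -/
def im (A : Subgroup H) (hA : A ≤ K) : Subgroup J where
  carrier := P '' A
  one_mem' := ⟨1, one_mem A, C.one⟩
  mul_mem' := by
    rintro _ _ ⟨x, hx, rfl⟩ ⟨y, hy, rfl⟩
    exact ⟨_, mul_mem hx hy, C.mul (hA hx) (hA hy)⟩
  inv_mem' := by
    rintro _ ⟨x, hx, rfl⟩
    exact ⟨_, inv_mem hx, C.inv (hA hx)⟩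

/-- the preimage of a subgroup -/
def pre (B : Subgroup J) : Subgroup H where
  carrier := {x | x ∈ K ∧ P x ∈ B}
  one_mem' := ⟨one_mem K, C.one ▸ one_mem B⟩
  mul_mem' := fun hx hy => ⟨mul_mem hx.1 hy.1, C.mul hx.1 hy.1 ▸ mul_mem hx.2 hy.2⟩
  inv_mem' := fun hx => ⟨inv_mem hx.1, C.inv hx.1 ▸ inv_mem hx.2⟩

theorem e8_eq {b : Fin 3 → H} (hb : ∀ k, b k ∈ K) (v : Fin 3 → ZMod 2) :
    P (e8 b v) = e8 (fun k => P (b k)) v := by
  rw [e8, C.mul (mul_mem (pow_mem (hb _) _) (pow_mem (hb _) _)) (pow_mem (hb _) _),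
    C.mul (pow_mem (hb _) _) (pow_mem (hb _) _), C.pow (hb _), C.pow (hb _), C.pow (hb _), e8]

end Cov

theorem eqns_HT3 : True := by
  have := @e8.eq_1.{0}
  have := @Cov.im.eq_1.{0, 0}
  have := @Cov.pre.eq_1.{0, 0}
  trivial

end H39.MS
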