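import Mathlib
import Cfsg.Agent.Lib.MSub.HT3
import Cfsg.Agent.Lib.HSRec.Ent
import Cfsg.Agent.S1674

/-!
Groups with an involution centralizer `2^(1+8).(A₅ ≀ 2)`: the centralizer of a noncentral involution
is `2.HS.2`, and the group is the Harada-Norton group.
-/

set_option autoImplicit false
set_option linter.unusedSectionVars false

namespace H39.MS

open Cfsg Subgroup H95 H1.HS

variable {H J : Type*} [Group H] [Group J]

/-- the hypothesis with a subgroup of index two of the centralizer of `t` -/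
structure HK (z : H) (Q : Subgroup H) (c : H → ℕ) (t i : H) (K : Subgroup H) (u : H) : Prop
    extends HU z Q c t i where
  uQ : u ∈ Q
  cu : c u = 194
  le : ∀ {x}, x ∈ K → x * t = t * x
  cj : ∀ {k x}, k * t = t * k → x ∈ K → k * x * k⁻¹ ∈ K
  cases : ∀ {x}, x * t = t * x → x ∈ K ∨ x * u ∈ K
  nu : u ∉ K

namespace HK

variable {z t i u : H} {Q K : Subgroup H} {c : H → ℕ} (T : HK z Q c t i K u) [Finite H]
include T

theorem kzK {y : H} (h : KZ z t y) : y ∈ K := by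
  obtain ⟨k, hk, rfl⟩ := h
  refine T.cj hk ?_
  rcases T.cases (mem_cent_iff.1 T.iR.1.2) with h | h
  · exact T.ii ▸ mul_mem h h
  · have := mul_mem h (T.cj ((T.comm_iff T.uQ T.tm).2 (by rw [T.cu, T.ct]; rfl)) h)
    rwa [show i * u * (u * (i * u) * u⁻¹) = i * (u * u) * i by group,
      (T.sq T.uQ).2 (by rw [T.cu]; rfl), mul_one, T.ii] at this

theorem RK : RR Q t i ≤ K := T.span fun _ => T.kzK

theorem zK : z ∈ K := T.RK (T.V_le T.zV)

theorem QK {x : H} (hx : x ∈ K) (hq : x ∈ Q) : x ∈ RR Q t i := by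
  rcases (f_tr _ (T.lt x)).2.1 (T.ct ▸ (T.comm_iff hq T.tm).1 (T.le hx)) with e | e
  · exact T.mem_RR.2 ⟨hq, e⟩
  · rw [← T.cu, ← T.mul hq T.uQ] at e
    exact absurd ((mul_mem_cancel_left hx).1 (T.RK (T.mem_RR.2 ⟨mul_mem hq T.uQ, e⟩))) T.nu

theorem exists_SK {k : ℕ} (hk : k < 120) : ∃ n ∈ K, Act z Q c n (LL k) := by
  obtain ⟨n, nt, a⟩ := T.exists_S hk
  rcases T.cases nt with h | h
  exacts [⟨n, h, a⟩, ⟨_, h, (T.act_mul a (T.act_mem T.uQ) :)⟩]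

theorem rel0 {x : H} (hx : x ∈ K) (hz : x * z = z * x) : ∃ k < 120, Act z Q c x (LL k) :=
  T.S_act hz (T.le hx)

theorem mem_of_ln {x : H} (hz : x * z = z * x) (ht : x * t = t * x)
    (h : ∀ y ∈ Q, Nil (c y) → ln (c (x * y * x⁻¹)) = ln (c y)) : x ∈ Q := by
  obtain ⟨k, hk, a⟩ := T.S_act hz ht
  obtain rfl := (f_ln k hk).2.2 fun j => by
    obtain ⟨y, hy, e⟩ := T.surj _ (f_lp j).1
    rw [← e, ← a.2 y hy, h y hy (e ▸ (f_lp j).2.1), e, (f_lp j).2.2]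
  exact T.mem_of_act' a

theorem cent {x : H} (ht : x * t = t * x) (h : ∀ y ∈ K, x * y = y * x) : x = 1 ∨ x = t := by
  have hq : x ∈ Q := T.mem_of_ln (h z T.zK) ht fun y hy n => by
    rw [mul_inv_eq_iff_eq_mul.2 (h y (T.RK (T.mem_RR.2 ⟨hy, n.1⟩)))]
  obtain ⟨s, hs, s', hs', cs, cs', -, -, -, I, -⟩ := T.basis
  obtain ⟨g, S⟩ := T.sym hs (T.ne_one (by omega))
  obtain ⟨r, kr, -, -, e, -⟩ := T.tv S hs' T.zV I
  have nz : r * z ≠ z * r := fun f => by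
    rw [mul_inv_eq_iff_eq_mul.2 f, left_eq_mul] at e
    exact T.ne_one (by omega) e
  have xr := h r (T.kzK kr)
  rcases f_cen _ (T.lt x) (fun a ha e => by
    obtain ⟨y, hy, rfl⟩ := T.surj a ha
    exact (T.comm_iff hq hy).1 (h y (T.RK (T.mem_RR.2 ⟨hy, e⟩)))) with f | f | f
  · exact Or.inl (((T.zero hq).1 f).resolve_right fun f => nz (f ▸ xr.symm))
  · refine Or.inr (((T.eq_iff T.tm hq).1 (T.ct.trans f.symm)).resolve_right fun f => nz ?_)
    rw [f, mul_assoc, ← mul_assoc r, T.kz_t kr, mul_assoc] at xr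
    exact (mul_left_cancel xr).symm
  · refine absurd ?_ nz
    rw [← (T.h.sq_mem hq).resolve_left (mt (T.sq hq).1 f)]
    exact (Commute.mul_left xr xr).eq.symm

theorem nonsplit {N : Subgroup H} (h : ∀ x ∈ K, x ∈ N ∨ x * t ∈ N) : t ∈ N := by
  have hz : z ∈ N := by
    rcases h i (T.RK T.iR) with f | f
    · exact T.ii ▸ mul_mem f f
    · have := mul_mem f f
      rwa [mul_assoc, ← mul_assoc t, ← mem_cent_iff.1 T.iR.1.2, mul_assoc i, T.tt, mul_one, T.ii] at this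
  have key : ∀ k w, w * z = z * w → k * w * z * (k * w)⁻¹ = k * z * k⁻¹ := fun k w e => by
    rw [mul_assoc k, e]; group
  have k1 : ∀ k ∈ K, k * z * k⁻¹ ∈ N := fun k hk => by
    rcases h k hk with f | f
    · exact mul_mem (mul_mem f hz) (inv_mem f)
    · exact key k t T.zt.symm ▸ mul_mem (mul_mem f hz) (inv_mem f)
  refine T.span ?_ T.tR
  rintro _ ⟨k, hk, rfl⟩
  rcases T.cases hk with f | f
  exacts [k1 k f, key k u (T.h.central u T.uQ) ▸ k1 _ f]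

variable {P : H → J} (C : Cov K t P)
include C

theorem cent_iff {x y : H} (hx : x ∈ K) (ky : KZ z t y) (h : P x * P y = P y * P x) :
    x * y = y * x := by
  have hy := T.kzK ky
  rcases (C.eq_iff hy (mul_mem (mul_mem hx hy) (inv_mem hx))).1
    (by rw [C.conj hx hy, h, mul_inv_cancel_right]) with e | e
  · exact mul_inv_eq_iff_eq_mul.1 e
  · exact absurd (e ▸ (ky.conj (T.le hx)).isConj) (T.kz_not ky)

theorem hd : ∃ π, HD (P z) (P i) (C.im _ T.RK) π := by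
  have kz : KZ z t z := ⟨1, by simp, by simp⟩
  have iK := T.RK T.iR
  obtain ⟨π, hπ⟩ := exists_hom_rel (fun (j : centralizer ({P z} : Set J)) (σ : Equiv.Perm (Fin 5)) =>
    ∃ x ∈ K, P x = j ∧ x * z = z * x ∧ ∀ y ∈ Q, Nil (c y) → ln (c (x * y * x⁻¹)) = σ (ln (c y)))
    (fun j => by
      obtain ⟨x, hx, e⟩ := C.surj j
      have hz := T.cent_iff C hx kz (e ▸ mem_cent_iff.1 j.2)
      obtain ⟨k, hk, a⟩ := T.rel0 hx hz
      exact ⟨Equiv.ofBijective _ (Finite.injective_iff_bijective.1 (f_ln k hk).2.1), x, hx, e, hz,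
        fun y hy n => by rw [a.2 y hy]; exact ((f_ln k hk).1 _ (T.lt y) n).2⟩)
    (by
      rintro j σ τ ⟨x, hx, e, hz, h⟩ ⟨x', hx', e', -, h'⟩
      ext k
      obtain ⟨y, hy, f⟩ := T.surj _ (f_lp k).1
      rw [← (f_lp k).2.2, ← f, ← h y hy (f ▸ (f_lp k).2.1), ← h' y hy (f ▸ (f_lp k).2.1)]
      rcases (C.eq_iff hx hx').1 (e.trans e'.symm) with rfl | rfl
      · rfl
      · obtain ⟨l, -, a⟩ := T.rel0 hx hz
        rw [a.2 y hy, (T.act_mul a (T.act_mem T.tm)).2 y hy]; rfl)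
    ⟨1, one_mem _, C.one, by simp, fun y _ _ => by simp⟩ (by
      rintro j j' σ τ ⟨x, hx, e, hz, h⟩ ⟨x', hx', e', hz', h'⟩
      refine ⟨_, mul_mem hx hx', by rw [C.mul hx hx', e, e', coe_mul],
        (Commute.mul_left hz hz').eq, fun y hy n => ?_⟩
      obtain ⟨l, hl, a⟩ := T.rel0 hx' hz'
      rw [Equiv.Perm.mul_apply, ← h' y hy n, ← h _ (T.conj_mem hz' hy)
        (a.2 y hy ▸ ((f_ln l hl).1 _ (T.lt y) n).1)]
      congr 2; group)
  refine ⟨π, fun σ => ?_, fun j => ?_, ?_, ?_, ?_, ⟨i, T.iR, rfl⟩, by rw [← C.mul iK iK, T.ii], ?_,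
    fun j hj => ?_, fun e => ?_, by rw [← C.mul T.zK T.zK, T.h.sq, C.one]⟩
  · obtain ⟨k, hk, e⟩ := f_surj σ
    obtain ⟨n, hn, a⟩ := T.exists_SK hk
    exact ⟨⟨P n, mem_cent_iff.2 (C.comm hn T.zK a.1)⟩, (hπ _ _).2 ⟨n, hn, rfl, a.1, fun y hy n => by
      rw [a.2 y hy, ((f_ln k hk).1 _ (T.lt y) n).2, e]⟩⟩
  · rw [hπ]
    constructor
    · rintro ⟨x, hx, e, hz, h⟩
      exact ⟨x, T.QK hx (T.mem_of_ln hz (T.le hx) h), e⟩
    · rintro ⟨x, hx, e⟩
      exact ⟨x, T.RK hx, e, T.h.central x hx.1.1, fun y hy _ => by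
        rw [(T.act_mem hx.1.1).2 y hy]; rfl⟩
  · rintro _ ⟨x, hx, rfl⟩
    exact mem_cent_iff.2 (C.comm (T.RK hx) T.zK (T.h.central x hx.1.1))
  · have h1 := ncard_two (S := (RR Q t i : Set H)) (Set.toFinite _) P (· * t)
      (fun x hx => ⟨mul_mem hx T.tR, by simpa using T.t1⟩) fun x hx y hy =>
        C.eq_iff (T.RK hx) (T.RK hy)
    have h2 := T.ncard_eq (tr · = 0)
    rw [f_c64, show {x | x ∈ Q ∧ tr (c x) = 0} = (RR Q t i : Set H) from
      Set.ext fun x => T.mem_RR.symm, h1] at h2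
    exact Nat.eq_of_mul_eq_mul_left two_pos h2
  · rintro _ ⟨x, hx, rfl⟩
    rw [← C.mul (T.RK hx) (T.RK hx)]
    rcases T.h.sq_mem hx.1.1 with e | e <;> rw [e]
    exacts [Or.inl C.one, Or.inr rfl]
  · rintro _ ⟨x, hx, rfl⟩
    exact C.comm (T.RK hx) iK (mem_cent_iff.1 hx.2)
  · obtain ⟨x, hx, rfl⟩ := C.surj j
    have hz := T.cent_iff C hx kz (mem_cent_iff.1 hj)
    obtain ⟨k, hk, a⟩ := T.rel0 hx hz
    have m := T.conj_mem hz T.im
    have tK := T.RK T.tR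
    have pt := (C.ker tK).2 (Or.inr rfl)
    have iz : P (i * z) = (P i)⁻¹ := by
      rw [← C.inv iK, eq_inv_of_mul_eq_one_left (a := i * z) (b := i) (by
        rw [mul_assoc, ← T.h.central i T.im, ← mul_assoc, T.ii, T.h.sq])]
    change P x * P i * (P x)⁻¹ = P i ∨ P x * P i * (P x)⁻¹ = (P i)⁻¹
    rw [← C.conj hx iK]
    rcases (f_65 k hk).2 with e | e
    · rcases (T.eq_iff T.im m).1 (by rw [a.2 i T.im, T.ci, e]) with f | f <;> rw [f]
      exacts [Or.inl rfl, Or.inr iz]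
    · rcases (T.eq_iff (mul_mem T.im T.tm) m).1 (by
        rw [a.2 i T.im, T.mul T.im T.tm, T.ci, T.ct, e]; rfl) with f | f <;> rw [f]
      · exact Or.inl (by rw [C.mul iK tK, pt, mul_one])
      · exact Or.inr (by rw [mul_assoc, ← T.zt, ← mul_assoc, C.mul (mul_mem iK T.zK) tK, pt, mul_one, iz])
  · rcases (C.ker T.zK).1 e with e | e
    exacts [T.h.ne_one e, T.tz e.symm]

theorem isoHS [Finite J] : Spor.IsoHS J := by
  obtain ⟨π, hd⟩ := T.hd C
  obtain ⟨s, hs, s', hs', cs, cs', I1, I2, I3, I4, I5, I6⟩ := T.basis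
  obtain ⟨g, S⟩ := T.sym hs I1.1.1
  obtain ⟨g', S'⟩ := T.sym hs' I1.2.1.1
  have VK := T.V_le.trans T.RK
  have Vle : ∀ N : Subgroup H, z ∈ N → s ∈ N → s' ∈ N → T.V ≤ N := fun N h1 h2 h3 v hv => by
    rcases hv.2 with e | e | e | e
    · exact T.mem_of_code h1 hv.1 (one_mem _) (one_mem _) (by rw [e, T.c_one])
    · exact T.mem_of_code h1 hv.1 hs.1 h2 (by rw [e, cs])
    · exact T.mem_of_code h1 hv.1 hs'.1 h3 (by rw [e, cs'])
    · exact T.mem_of_code h1 hv.1 (mul_mem hs.1 hs'.1) (mul_mem h2 h3)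
        (by rw [e, T.mul hs.1 hs'.1, cs, cs']; rfl)
  have c01 := T.j_j T.sym_one S T.zV hs hs hs' T.zV hs' I1 I3 I1.1.2.symm
  have c02 := T.j_j T.sym_one S' T.zV hs' hs hs' T.zV hs I1 I5 I1.2.1.2.symm
  have c12 := T.j_j S S' hs hs' T.zV hs' T.zV hs I3 I5 I3.2.1.2.symm
  rw [one_mul, inv_one, mul_one] at c01 c02
  obtain ⟨k1, hk1, a1⟩ := T.act_j S (by omega)
  obtain ⟨k2, hk2, a2⟩ := T.act_j S' (by omega)
  have iK := T.RK T.iR
  have m1 := T.cj S.1 iK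
  have m2 := T.cj S'.1 iK
  have q1 := T.j_sq S
  have q2 := T.j_sq S'
  have v0 : ∀ w ∈ T.V, i * w = w * i := fun w hw => (mem_cent_iff.1 (T.V_le hw).2).symm
  have v1 := fun w => T.j_comm (w := w) S
  have v2 := fun w => T.j_comm (w := w) S'
  generalize g * i * g⁻¹ = j1 at *
  generalize g' * i * g'⁻¹ = j2 at *
  have p4 : ∀ {x y : H}, x * x = y → y ∈ T.V → x ^ 4 = 1 := fun e hy => by
    rw [← T.V_sq hy, ← e, ← sq, ← sq, ← pow_mul]
  let E : Multiplicative A4 →* H := MonoidHom.mk'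
    (fun v => i ^ v.toAdd.1.val * j1 ^ v.toAdd.2.1.val * j2 ^ v.toAdd.2.2.val) fun v w =>
      pow3_add (p4 T.ii T.zV) (p4 q1 hs) (p4 q2 hs') c01 c02 c12 _ _ _ _ _ _
  have El : ∀ N : Subgroup H, i ∈ N → j1 ∈ N → j2 ∈ N → E.range ≤ N := by
    rintro N h1 h2 h3 _ ⟨v, rfl⟩
    exact mul_mem (mul_mem (pow_mem h1 _) (pow_mem h2 _)) (pow_mem h3 _)
  have EK := El K iK m1 m2
  let b : Fin 3 → H := ![z, s, s']
  have bV : ∀ k, b k ∈ T.V := fun k => by fin_cases k; exacts [T.zV, hs, hs']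
  have eV : ∀ v, e8 b v ∈ T.V := fun v =>
    mul_mem (mul_mem (pow_mem (bV _) _) (pow_mem (bV _) _)) (pow_mem (bV _) _)
  have Ve : ∀ w ∈ T.V, ∃ v, e8 b v = w := Vle (MonoidHom.mk' (fun v : Multiplicative _ => e8 b v.toAdd)
    (e8_add (fun k => (sq _).trans (T.V_sq (bV k))) fun k l => T.V_comm (bV k) (bV l))).range
    ⟨_, e8_single b 0⟩ ⟨_, e8_single b 1⟩ ⟨_, e8_single b 2⟩
  have Pe : ∀ v, P (e8 b v) = 1 → v = 0 := fun v h => by
    rcases (C.ker (VK (eV v))).1 h with e | e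
    · have z2 : ∀ a : ZMod 2, a = 0 ∨ a = 1 := by decide
      have n7 : z * s * s' ≠ 1 := fun e => I1.2.2.2 (by
        rw [mul_assoc] at e; rw [eq_inv_of_mul_eq_one_right e, T.h.inv_eq])
      rcases z2 (v 0) with h0 | h0 <;> rcases z2 (v 1) with h1 | h1 <;> rcases z2 (v 2) with h2 | h2 <;>
        simp [e8, b, h0, h1, h2, ZMod.val_one, T.h.ne_one, I1.1.1, I1.2.1.1, I1.2.2.1, I3.2.2.1,
          I5.2.2.1, n7] at e
      ext k; fin_cases k <;> assumption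
    · have := (eV v).2
      rw [e, T.ct] at this
      exact absurd this (by decide)
  have E2 : ∀ a : A4, a + a = 0 → ∃ v, E (.ofAdd a) = e8 b v ∧ (v = 0 → a = 0) := fun a ha => by
    obtain ⟨v, h0, h1, h2, h3⟩ := (by decide +kernel : ∀ a : A4, a + a = 0 → ∃ v : Fin 3 → ZMod 2,
      a.1.val = 2 * (v 0).val ∧ a.2.1.val = 2 * (v 1).val ∧ a.2.2.val = 2 * (v 2).val ∧
        (v = 0 → a = 0)) a ha
    refine ⟨v, ?_, h3⟩
    change i ^ a.1.val * j1 ^ a.2.1.val * j2 ^ a.2.2.val = _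
    rw [h0, h1, h2, pow_mul, pow_mul, pow_mul, sq, sq, sq, T.ii, q1, q2]; rfl
  have add : ∀ v w : A4, P (E (.ofAdd (v + w))) = P (E (.ofAdd v)) * P (E (.ofAdd w)) := fun v w => by
    rw [ofAdd_add, map_mul, C.mul (EK ⟨_, rfl⟩) (EK ⟨_, rfl⟩)]
  have inj : ∀ a : A4, P (E (.ofAdd a)) = 1 → a = 0 := fun a h => by
    have k : ∀ a : A4, a + a = 0 → P (E (.ofAdd a)) = 1 → a = 0 := fun a ha h => by
      obtain ⟨v, e, f⟩ := E2 a ha
      exact f (Pe v (e ▸ h))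
    exact k a (k _ ((by decide +kernel : ∀ a : A4, a + a + (a + a) = 0) a) (by rw [add, h, mul_one])) h
  have co : Co (fun v => P (E (.ofAdd v))) (C.im _ EK) := ⟨add, (injective_iff_map_eq_one
    (MonoidHom.mk' (fun v : Multiplicative A4 => P (E v)) add)).2 inj, fun g =>
      ⟨by rintro ⟨_, ⟨v, rfl⟩, rfl⟩; exact ⟨v, rfl⟩, by rintro ⟨v, rfl⟩; exact ⟨_, ⟨_, rfl⟩, rfl⟩⟩⟩
  have o4 : (1 : ZMod 4).val = 1 := rfl
  have n0 : i ∈ C.pre (C.im _ EK) := ⟨iK, _, ⟨.ofAdd (1, 0, 0), by simp [E, o4]⟩, rfl⟩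
  have n1 : j1 ∈ C.pre (C.im _ EK) := ⟨m1, _, ⟨.ofAdd (0, 1, 0), by simp [E, o4]⟩, rfl⟩
  have n2 : j2 ∈ C.pre (C.im _ EK) := ⟨m2, _, ⟨.ofAdd (0, 0, 1), by simp [E, o4]⟩, rfl⟩
  have nt : t ∈ C.pre (C.im _ EK) :=
    ⟨T.RK T.tR, (C.ker (T.RK T.tR)).2 (Or.inr rfl) ▸ one_mem _⟩
  have nV := Vle _ (T.ii ▸ mul_mem n0 n0) (q1 ▸ mul_mem n1 n1) (q2 ▸ mul_mem n2 n2)
  have nM : ∀ x ∈ K, (∀ w ∈ T.V, x * w * x⁻¹ ∈ T.V) → P x ∈ normalizer (C.im _ VK : Set J) :=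
    fun x hx h => mem_normalizer_of_finite (by
      rintro _ ⟨w, hw, rfl⟩
      exact ⟨_, h w hw, C.conj hx (VK hw)⟩)
  have cM : ∀ m, (∀ w ∈ T.V, m * P w = P w * m) → m ∈ normalizer (C.im _ VK : Set J) :=
    fun m h => mem_normalizer_of_finite (by
      rintro _ ⟨w, hw, rfl⟩
      exact ⟨w, hw, by rw [h w hw, mul_inv_cancel_right]⟩)
  have cW : ∀ m ∈ C.im _ EK, ∀ w ∈ T.V, m * P w = P w * m := by
    rintro _ ⟨x, hx, rfl⟩ w hw
    exact C.comm (EK hx) (VK hw) (mem_cent_iff.1 (El _ (mem_cent_iff.2 (v0 w hw))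
      (mem_cent_iff.2 (v1 w hw)) (mem_cent_iff.2 (v2 w hw)) hx))
  obtain ⟨ψ, h1, h2⟩ := exists_psi (b := fun k => P (b k)) (M := normalizer (C.im _ VK : Set J))
    (fun k => by rw [sq, ← C.mul (VK (bV k)) (VK (bV k)), T.V_sq (bV k), C.one])
    (fun k l => C.comm (VK (bV k)) (VK (bV l)) (T.V_comm (bV k) (bV l)))
    (fun v h => Pe v (by rwa [C.e8_eq fun k => VK (bV k)])) (fun m hm v => by
      obtain ⟨w, hw, e⟩ := conj_mem_of_normalizer hm (⟨_, eV v, rfl⟩ : P (e8 b v) ∈ C.im _ VK)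
      obtain ⟨v', rfl⟩ := Ve w hw
      exact ⟨v', by simpa only [C.e8_eq fun k => VK (bV k)] using e.symm⟩) fun k l hkl => by
      obtain ⟨n, I, hn⟩ : ∃ n, Ind (b k) (b n) (b l) ∧ ∀ m, m = l ∨ m ≠ l ∧ (m = k ∨ m = n) := by
        fin_cases k <;> fin_cases l <;> try exact absurd rfl hkl
        exacts [⟨2, I2, by decide⟩, ⟨1, I1, by decide⟩, ⟨2, I4, by decide⟩, ⟨0, I3, by decide⟩,
          ⟨1, I6, by decide⟩, ⟨0, I5, by decide⟩]
      obtain ⟨g, S⟩ := T.sym (bV k) (by fin_cases k; exacts [T.h.ne_one, I1.1.1, I1.2.1.1])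
      obtain ⟨x, kx, x1, x2, x3, -, x4⟩ := T.tv S (bV n) (bV l) I
      have hx := T.kzK kx
      refine ⟨P x, nM x hx fun w hw => ?_, fun m => ?_⟩
      · rcases x4 w hw with e | e <;> rw [e]
        exacts [hw, mul_mem hw (bV k)]
      · rw [← C.conj hx (VK (bV m))]
        rcases hn m with rfl | ⟨h, rfl | rfl⟩
        · rw [if_pos rfl, x3, C.mul (VK (bV _)) (VK (bV _))]
        · rw [if_neg h, x1, mul_inv_cancel_right]
        · rw [if_neg h, x2, mul_inv_cancel_right]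
  have hk : ∀ m, ψ m = 1 ↔ (m : J) ∈ C.im _ EK := fun m => by
    refine ⟨fun h => ?_, fun h => (h2 m).2 fun k => cW _ h _ (bV k)⟩
    obtain ⟨d, hd, e⟩ := C.surj m
    have k0 := fun k hk => mem_cent_iff.2
      (T.cent_iff C hd (T.kz_V (bV k) hk) (e ▸ (h2 m).1 h k)).symm
    have dV : ∀ w ∈ T.V, d * w = w * d := fun w hw =>
      (mem_cent_iff.1 (Vle _ (k0 0 T.h.ne_one) (k0 1 I1.1.1) (k0 2 I1.2.1.1) hw)).symm
    obtain ⟨k, hk, a⟩ := T.act_fix (T.le hd) dV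
    obtain ⟨j, hj, jV, aj⟩ : ∃ j ∈ C.pre (C.im _ EK), (∀ w ∈ T.V, j * w = w * j) ∧
        Act z Q c j (LL k) := by
      rcases hk with rfl | hk
      · exact ⟨1, one_mem _, by simp, T.act_congr (T.act_mem (one_mem _))
          fun u hu => (f_one u hu).symm⟩
      rcases f_prod k1 hk1 k2 hk2 k hk with rfl | rfl | rfl | f
      · have := T.h.sq_mem (T.mem_of_act a1 a2)
        rw [(Commute.inv_right c12).symm.mul_mul_mul_comm, ← mul_inv_rev, q1, q2,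
          inv_eq_of_mul_eq_one_right (T.V_sq hs')] at this
        exact absurd this (not_or.2 I1.2.2)
      · exact ⟨_, n1, v1, a1⟩
      · exact ⟨_, n2, v2, a2⟩
      · exact ⟨_, mul_mem n1 n2, fun w hw => (Commute.mul_left (v1 w hw) (v2 w hw)).eq,
          T.act_congr (T.act_mul a1 a2) fun u hu => (f u hu).symm⟩
    have hx := T.mem_RR.1 (T.QK (mul_mem hd (inv_mem hj.1)) (T.mem_of_act a aj))
    have xV : ∀ w ∈ T.V, bf (c (d * j⁻¹)) (c w) = 0 := fun w hw => (T.comm_iff hx.1 hw.1).1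
      (Commute.mul_left (dV w hw) (Commute.inv_left (jV w hw))).eq
    obtain ⟨_, hy, f⟩ := (f_tr _ (T.lt _)).2.2.2.1 hx.2 (cs ▸ xV s hs) (cs' ▸ xV s' hs')
    have k : ∀ y ∈ C.pre (C.im _ EK), y ∈ Q → InU (c (d * j⁻¹) ^^^ c y) → (m : J) ∈ C.im _ EK :=
      fun y h1 h2 h3 => by
        have := mul_mem ((mul_mem_cancel_right h1).1
          (nV ⟨mul_mem hx.1 h2, T.mul hx.1 h2 ▸ h3⟩)) hj
        rw [inv_mul_cancel_right] at this
        exact e ▸ this.2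
    simp only [List.mem_cons, List.not_mem_nil, or_false] at hy
    rcases hy with rfl | rfl | rfl | rfl
    · exact k 1 (one_mem _) (one_mem _) (T.c_one ▸ f)
    · exact k t nt T.tm (T.ct ▸ f)
    · exact k i n0 T.im (T.ci ▸ f)
    · exact k _ (mul_mem n0 nt) (mul_mem T.im T.tm) (by rw [T.mul T.im T.tm, T.ci, T.ct]; exact f)
  have WM : C.im _ EK ≤ normalizer (C.im _ VK : Set J) := fun m hm => cM m (cW m hm)
  refine core2 hd co WM (le_normalizer_of_conj fun m hm w hw => ?_) ψ h1 hk (MulEquiv.refl _)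
    (nV T.zV).2 ?_ (fun v hv vv => ?_) fun m h => cM m fun w hw => h _ (nV hw).2 ?_
  · exact (hk (⟨m, hm⟩ * ⟨w, WM hw⟩ * ⟨m, hm⟩⁻¹)).1 (by
      rw [map_mul, map_mul, (hk ⟨w, WM hw⟩).2 hw, mul_one, map_inv, mul_inv_cancel])
  · rintro _ ⟨x, hx, rfl⟩
    refine nM x (T.RK hx) fun w hw => ?_
    rcases T.h.conj hw.1 hx.1.1 with e | e <;> rw [e]
    exacts [hw, mul_mem hw T.zV]
  · obtain ⟨a, rfl⟩ := (co.mem v).1 hv
    obtain ⟨v, e, -⟩ := E2 a (inj _ ((add a a).trans vv))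
    exact ⟨_, T.V_le (eV v), by rw [← e]⟩
  · rw [← C.mul (VK hw) (VK hw), T.V_sq hw, C.one]

end HK

namespace HT

variable {z : H} {Q : Subgroup H} {c : H → ℕ} (T : HT z Q c) [Finite H]
include T

theorem exists_hu : ∃ t i, HU z Q c t i := by
  obtain ⟨t, ht, ct⟩ := T.surj 65 (by norm_num)
  obtain ⟨i, hi, ci⟩ := T.surj 130 (by norm_num)
  exact ⟨t, i, T, ht, ct, hi, ci⟩

theorem exists_conj_mem : ∃ g, g * z * g⁻¹ ∈ Q ∧ g * z * g⁻¹ ≠ z := by
  obtain ⟨s, hs, cs⟩ := T.surj 4 (by norm_num)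
  obtain ⟨g, rfl⟩ := _root_.isConj_iff.1 (T.s_conj hs cs)
  exact ⟨g, hs, T.ne_z (by omega)⟩

theorem simple : IsSimpleGroup H := by
  obtain ⟨t, i, U⟩ := T.exists_hu
  obtain ⟨g, hs, hne⟩ := T.exists_conj_mem
  have : Nontrivial H := ⟨⟨z, 1, T.h.ne_one⟩⟩
  refine ⟨fun N hN => or_iff_not_imp_left.2 fun h0 => T.h.eq_top_of_cent_le ?_⟩
  have hz : z ∈ N := T.h.mem_of_even (by_contra fun h => h0 ((T.h.isLarge_of_conj_mem
    (by rw [T.cardQ]; norm_num) hs hne).2.2.2 N (Nat.odd_iff.2 (by omega))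
    (by rw [normalizer_eq_top]; exact le_top)))
  have k : ∀ y, IsConj z y → y ∈ N := fun y h => by
    obtain ⟨k, rfl⟩ := _root_.isConj_iff.1 h
    exact hN.conj_mem z hz k
  have k' : ∀ y ∈ Q, dt (c y) = 0 → y ∈ N := fun y hy e => by
    by_cases y1 : y = 1
    exacts [y1 ▸ one_mem _, k y ((T.isConj_iff hy).2 ⟨y1, e⟩)]
  obtain ⟨r, kr, a, -⟩ := U.exists_r
  refine T.cent_le (fun g _ n hn => hN.conj_mem n hn g) ⟨r, k r kr.isConj, a⟩ fun x hx => ?_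
  obtain ⟨b, b1, b2, e⟩ := f_rk _ (T.lt x)
  obtain ⟨y, hy, rfl⟩ := T.surj b (by omega)
  exact (mul_mem_cancel_right (k' y hy b2)).1 (k' _ (mul_mem hx hy) (T.mul hx hy ▸ e))

theorem isoHN : Spor.IsoHN H := by
  obtain ⟨t, i, U⟩ := T.exists_hu
  obtain ⟨N, hN, h2, u, hu, cu, nu⟩ := U.exists_index_two
  have := T.simple
  have mm : ∀ x : centralizer ({t} : Set H), (x : H) ∈ N.map (Subgroup.subtype _) ↔ x ∈ N :=
    fun x => mem_map_iff_mem (subtype_injective _)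
  have K : HK z Q c t i (N.map (Subgroup.subtype _)) u := ⟨U, hu, cu,
    by rintro _ ⟨x, -, rfl⟩; exact mem_cent_iff.1 x.2,
    by rintro k _ hk ⟨x, hx, rfl⟩; exact ⟨_, hN.conj_mem x hx ⟨k, mem_cent_iff.2 hk⟩, rfl⟩,
    fun {x} hx => by
      have := mul_mem_iff_of_index_two h2 (a := ⟨x, mem_cent_iff.2 hx⟩) (b := u)
      rw [← mm, ← mm] at this
      tauto, fun h => nu ((mm u).1 h)⟩
  have tN : (⟨t, self_mem_cent t⟩ : centralizer ({t} : Set H)) ∈ N := (mm _).1 (K.RK K.tR)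
  have o2 := orderOf_eq_two_of U.tt U.t1
  have cen : ∀ x : centralizer ({t} : Set H), (∀ y ∈ N, y * x = x * y) → (x : H) = 1 ∨ (x : H) = t :=
    fun x h => K.cent (mem_cent_iff.1 x.2) (by
      rintro _ ⟨y, hy, rfl⟩; exact congrArg Subtype.val (h y hy).symm)
  have mc : ∀ x : N, x ∈ center N ↔ (x : H) = 1 ∨ (x : H) = t := fun x =>
    ⟨fun h => cen x fun y hy => congrArg Subtype.val (mem_center_iff.1 h ⟨y, hy⟩), fun h =>
      mem_center_iff.2 fun y => Subtype.ext (Subtype.ext (by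
        rcases h with h | h <;> simp only [coe_mul, h]
        exacts [by simp, mem_cent_iff.1 y.1.2]))⟩
  let e := N.equivMapOfInjective _ (subtype_injective (centralizer ({t} : Set H)))
  obtain ⟨P, C⟩ := exists_cov (t := t) ((QuotientGroup.mk' (center N)).comp e.symm.toMonoidHom)
    ((QuotientGroup.mk'_surjective _).comp e.symm.surjective) fun x => by
      obtain ⟨x, rfl⟩ := e.surjective x
      exact (QuotientGroup.eq_one_iff _).trans ((iff_of_eq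
        (congrArg (· ∈ center N) (e.symm_apply_apply x))).trans (mc x))
  refine Cfsg.Agent.S1674.result t o2 N h2 (fun x hx => ?_) ⟨?_, K.isoHS C, fun L hL => ?_⟩
  · rcases cen x hx with h | h
    · exact (Subtype.ext h : x = 1) ▸ one_mem _
    · exact (Subtype.ext h : x = ⟨t, self_mem_cent t⟩) ▸ tN
  · rw [show center N = zpowers ⟨_, tN⟩ from Subgroup.ext fun x => by
      rw [mc, mem_zpowers_iff_of_sq (Subtype.ext (Subtype.ext U.tt)), Subtype.ext_iff (a1 := x),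
        Subtype.ext_iff (a1 := x), Subtype.ext_iff (a1 := x.1), Subtype.ext_iff (a1 := x.1)]
      rfl, Nat.card_zpowers, orderOf_mk, orderOf_mk, o2]
  · obtain ⟨_, ⟨x, hx, rfl⟩, h⟩ := K.nonsplit (N := (L.map N.subtype).map (Subgroup.subtype _)) (by
      rintro _ ⟨x, hx, rfl⟩
      obtain ⟨⟨a, b⟩, h, -⟩ := hL.existsUnique ⟨x, hx⟩
      have hb : ((b : N) : H) ∈ (L.map N.subtype).map (Subgroup.subtype _) := ⟨_, ⟨_, b.2, rfl⟩, rfl⟩
      have h' : ((a : N) : H) * (b : N) = x := congrArg (fun y : N => (y : H)) h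
      rw [coe_subtype, ← h']
      rcases (mc a).1 a.2 with f | f <;> rw [f]
      · exact Or.inl (by simpa using hb)
      · exact Or.inr (by rwa [← mem_cent_iff.1 (b : N).1.2, mul_assoc, U.tt, mul_one]))
    have := (disjoint_def.1 hL.disjoint) ((mc x).2 (Or.inr h)) hx
    exact U.t1 (by rw [← h, this]; rfl)

end HT

end H39.MS
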