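import Mathlib
import Cfsg.Prelude.Def_KGroupFacts
import Cfsg.Agent.Lib.LargeExtra.Setting

/-!
An involution inverting an element of odd order: its action on the centralizer of that element.
-/

set_option autoImplicit false

namespace H39.MS

open Cfsg Subgroup H95

variable {G : Type*} [Group G] {y x : G} {H : Type*} [Group H]

theorem conj_mem_cent {n : G} {k : ℤ} (h : n⁻¹ * y * n = y ^ k) {c : G}
    (hc : c ∈ centralizer ({y} : Set G)) : n * c * n⁻¹ ∈ centralizer ({y} : Set G) := by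
  have c1 : Commute c (y ^ k) := Commute.zpow_right (mem_cent_iff.1 hc) k
  rw [mem_cent_iff]
  calc n * c * n⁻¹ * y = n * (c * (n⁻¹ * y * n)) * n⁻¹ := by group
    _ = n * ((n⁻¹ * y * n) * c) * n⁻¹ := by rw [h, c1.eq]
    _ = _ := by group

/-- An element normalizing `⟨y⟩` induces an automorphism of `C(y)/⟨y⟩`. -/
theorem exists_aut [Finite H] {f : centralizer ({y} : Set G) →* H} (hs : Function.Surjective f)
    (hk : ∀ c, f c = 1 ↔ (c : G) ∈ zpowers y) {n : G} {k l : ℤ} (h : n⁻¹ * y * n = y ^ k)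
    (h' : n * y * n⁻¹ = y ^ l) :
    ∃ α : MulAut H, ∀ c, α (f c) = f ⟨n * c * n⁻¹, conj_mem_cent h c.2⟩ := by
  let e : centralizer ({y} : Set G) →* centralizer ({y} : Set G) :=
    MonoidHom.mk' (fun c => ⟨n * c * n⁻¹, conj_mem_cent h c.2⟩) fun a b =>
      Subtype.ext (by simp only [coe_mul]; group)
  let a := f.liftOfSurjective hs ⟨f.comp e, fun c hc => (hk _).2 (by
    obtain ⟨m, hm⟩ := (hk c).1 hc
    exact ⟨l * m, by
      change _ = n * (c : G) * n⁻¹
      rw [← hm]; simp only; rw [← conj_zpow, h', zpow_mul]⟩)⟩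
  have ha : ∀ c, a (f c) = f (e c) := fun c => MonoidHom.liftOfRightInverse_comp_apply _ _ _ _ c
  refine ⟨MulEquiv.ofBijective a (Function.Surjective.bijective_of_finite fun u => ?_), ha⟩
  obtain ⟨c, rfl⟩ := hs u
  refine ⟨f ⟨n⁻¹ * c * n⁻¹⁻¹, conj_mem_cent (k := l) (by rw [inv_inv, h']) c.2⟩, (ha _).trans ?_⟩
  exact congrArg f (Subtype.ext (by simp only [e, MonoidHom.mk'_apply]; group))

theorem inv_conj (hx : x * x = 1) (h : x * y * x⁻¹ = y⁻¹) : x⁻¹ * y * x = y ^ (-1 : ℤ) := by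
  rw [zpow_neg_one, ← h, inv_eq_of_mul_eq_one_right hx]

/-- The order of `[x, c]` when products of two conjugates of `x` have order at most 6. -/
theorem comm_pow [Finite G] {p : ℕ} (hp : orderOf y = p) (hx : x * x = 1) (h : x * y * x⁻¹ = y⁻¹)
    (h6 : ∀ g g', orderOf (g * x * g⁻¹ * (g' * x * g'⁻¹)) ≤ 6) {c : G}
    (hc : c ∈ centralizer ({y} : Set G)) :
    (p = 3 → (x * c * x⁻¹ * c⁻¹) ^ 6 = 1) ∧ (p = 5 → (x * c * x⁻¹ * c⁻¹) ^ 5 = 1) := by
  have xi := inv_eq_of_mul_eq_one_right hx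
  have cm : Commute (y ^ 2) (x * c * x⁻¹ * c⁻¹) := Commute.pow_left (mem_cent_iff.1
    (mul_mem (conj_mem_cent (inv_conj hx h) hc) (inv_mem hc))).symm 2
  have e1 : x * c * x⁻¹ * c⁻¹ = 1 * x * 1⁻¹ * (c * x * c⁻¹) := by rw [xi]; group
  have e2 : y ^ 2 * (x * c * x⁻¹ * c⁻¹) = y * x * y⁻¹ * (c * x * c⁻¹) := by
    rw [← h, xi, show y * x * (x * y * x) = y * (x * x) * y * x by group, hx, pow_two]
    group
  have o1 := e1 ▸ h6 1 c
  have o2 := e2 ▸ h6 y c
  have o0 := orderOf_pos (x * c * x⁻¹ * c⁻¹)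
  have key : ∀ q, p = q → Odd q → (Nat.Coprime q (orderOf (x * c * x⁻¹ * c⁻¹)) →
      q * orderOf (x * c * x⁻¹ * c⁻¹) ≤ 6) := by
    rintro q rfl hq cp
    have : orderOf (y ^ 2) = p := hp ▸ (Nat.Coprime.orderOf_pow (hp ▸ Nat.coprime_two_right.2 hq))
    rwa [cm.orderOf_mul_eq_mul_orderOf_of_coprime (this ▸ cp), this] at o2
  constructor <;> intro e <;> have k := key _ e (by decide) <;>
    rw [← orderOf_dvd_iff_pow_eq_one] <;> generalize orderOf (x * c * x⁻¹ * c⁻¹) = r at * <;>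
    interval_cases r <;> revert k <;> decide

/-- A subgroup of `C(y)/⟨y⟩` centralized by `x` lifts to the centralizer of `x`. -/
theorem exists_lift [Finite G] (ho : Odd (orderOf y)) (hx : x * x = 1) (h : x * y * x⁻¹ = y⁻¹)
    {f : centralizer ({y} : Set G) →* H} (hk : ∀ c, f c = 1 ↔ (c : G) ∈ zpowers y) {K : Subgroup H}
    (hK : K ≤ f.range)
    (hc : ∀ c, f c ∈ K → f ⟨x * c * x⁻¹, conj_mem_cent (inv_conj hx h) c.2⟩ = f c) :
    ∃ L : Subgroup G, L ≤ centralizer ({y} : Set G) ∧ L ≤ centralizer ({x} : Set G) ∧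
      Nonempty (L ≃* K) := by
  have inv : ∀ u ∈ zpowers y, x * u * x⁻¹ = u⁻¹ := by
    rintro _ ⟨k, rfl⟩
    simp only; rw [← conj_zpow, h, inv_zpow]
  let L := K.comap f ⊓ (centralizer ({x} : Set G)).subgroupOf (centralizer ({y} : Set G))
  let g : L →* K := (f.comp L.subtype).codRestrict K fun c => c.2.1
  refine ⟨L.map (Subgroup.subtype _), map_subtype_le _, ?_,
    ⟨(L.equivMapOfInjective _ (subtype_injective _)).symm.trans (MulEquiv.ofBijective g ⟨?_, ?_⟩)⟩⟩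
  · rintro _ ⟨c, hc, rfl⟩; exact hc.2
  · refine (injective_iff_map_eq_one g).2 fun c hc => Subtype.ext (Subtype.ext ?_)
    have h1 := (hk c).1 (congrArg Subtype.val hc)
    have h2 := inv _ h1
    rw [← show (c.1 : G) * x = x * c.1 from mem_cent_iff.1 c.2.2, mul_inv_cancel_right] at h2
    exact orderOf_eq_one_iff.1 (Nat.eq_one_of_dvd_coprimes (Nat.coprime_two_right.2 ho)
      (orderOf_dvd_of_mem_zpowers h1) (orderOf_dvd_of_pow_eq_one (by
        rw [pow_two]; exact mul_eq_one_iff_eq_inv.2 h2)))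
  · rintro ⟨u, hu⟩
    obtain ⟨c, rfl⟩ := hK hu
    have h1 := (hk (⟨x * c * x⁻¹, conj_mem_cent (inv_conj hx h) c.2⟩ * c⁻¹)).1 (by
      rw [map_mul, hc c hu, map_inv, mul_inv_cancel])
    obtain ⟨m, hm⟩ := ho
    set u := x * c * x⁻¹ * (c : G)⁻¹ with hu'
    have h2 : u ∈ zpowers y := h1
    have h3 : u ^ (m + 1) * u ^ (m + 1) = u := by
      rw [← pow_add, show m + 1 + (m + 1) = orderOf y + 1 by omega, pow_succ,
        orderOf_dvd_iff_pow_eq_one.1 (orderOf_dvd_of_mem_zpowers h2), one_mul]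
    have h4 := pow_mem h2 (m + 1)
    have h5 : zpowers y ≤ centralizer ({y} : Set G) := zpowers_le.2 (self_mem_cent y)
    have h6 : f ⟨_, h5 h4⟩ = 1 := (hk _).2 h4
    refine ⟨⟨⟨_, h5 h4⟩ * c, ?_, mem_cent_iff.2 (mul_inv_eq_iff_eq_mul.1 ?_).symm⟩, Subtype.ext ?_⟩
    · change f _ ∈ K
      rwa [map_mul, h6, one_mul]
    · change x * (u ^ (m + 1) * c) * x⁻¹ = u ^ (m + 1) * c
      calc x * (u ^ (m + 1) * c) * x⁻¹ = x * u ^ (m + 1) * x⁻¹ * (u * c) := by rw [hu']; group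
        _ = _ := by rw [inv _ h4]; nth_rewrite 2 [← h3]; group
    · change f _ = f c
      rw [Subgroup.subtype_apply, map_mul, h6, one_mul]

/-- If `x` induces an inner automorphism and no involution class has all its products of the
allowed orders, then `x` centralizes a complement. -/
theorem exists_compl [Finite G] {p n : ℕ} (hp : orderOf y = p) (hn : p = 3 ∧ n = 6 ∨ p = 5 ∧ n = 5)
    (hx : x * x = 1) (h : x * y * x⁻¹ = y⁻¹)
    (h6 : ∀ g g', orderOf (g * x * g⁻¹ * (g' * x * g'⁻¹)) ≤ 6)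
    {f : centralizer ({y} : Set G) →* H} (hs : Function.Surjective f)
    (hk : ∀ c, f c = 1 ↔ (c : G) ∈ zpowers y) (hZ : center H = ⊥) {k : H}
    (hi : ∀ c : centralizer ({y} : Set G), f ⟨x * c * x⁻¹, conj_mem_cent (inv_conj hx h) c.2⟩ = k * f c * k⁻¹)
    (hH : ∀ k : H, k * k = 1 → (∀ g, (k * (g * k * g⁻¹)) ^ n = 1) → k = 1) :
    ∃ L : Subgroup G, L ≤ centralizer ({y} : Set G) ∧ L ≤ centralizer ({x} : Set G) ∧
      Nonempty (L ≃* H) := by
  have kk : k * k = 1 := by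
    refine (hZ.le (Subgroup.mem_center_iff.2 fun g => ?_) :)
    obtain ⟨c, rfl⟩ := hs g
    have h1 := hi ⟨_, conj_mem_cent (inv_conj hx h) c.2⟩
    rw [hi c] at h1
    have h2 : f c = k * (k * f c * k⁻¹) * k⁻¹ := h1 ▸ congrArg f (Subtype.ext (by
      change (c : G) = x * (x * c * x⁻¹) * x⁻¹
      rw [show x * (x * c * x⁻¹) * x⁻¹ = x * x * c * (x * x)⁻¹ by group, hx]; group))
    nth_rewrite 1 [h2]; group
  obtain rfl : k = 1 := hH k kk fun g => by
    obtain ⟨c, rfl⟩ := hs g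
    have h1 : (⟨_, conj_mem_cent (inv_conj hx h) c.2⟩ * c⁻¹ : centralizer ({y} : Set G)) ^ n = 1 := by
      obtain ⟨a, b⟩ := comm_pow hp hx h h6 c.2
      rcases hn with ⟨e, rfl⟩ | ⟨e, rfl⟩
      exacts [Subtype.ext (a e), Subtype.ext (b e)]
    have h2 := congrArg f h1
    rw [map_pow, map_mul, hi, map_inv, map_one, inv_eq_of_mul_eq_one_right kk] at h2
    rw [← h2]; group
  obtain ⟨L, h1, h2, ⟨e⟩⟩ := exists_lift (by rw [hp]; rcases hn with e | e <;> rw [e.1] <;> decide)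
    hx h hk (K := ⊤) (MonoidHom.range_eq_top.2 hs).ge fun c _ => by rw [hi]; group
  exact ⟨L, h1, h2, ⟨e.trans topEquiv⟩⟩

theorem inner_of_out {S : Type*} [Group S] (e : H ≃* S) {n : ℕ} (h : Nat.card (Out S) = n)
    (α : MulAut H) : ∃ k : H, ∀ u, (α ^ n) u = k * u * k⁻¹ := by
  have h1 : (QuotientGroup.mk (MulAut.congr e α) : Out S) ^ n = 1 := h ▸ pow_card_eq_one'
  rw [← QuotientGroup.mk_pow, QuotientGroup.eq_one_iff, ← map_pow] at h1
  obtain ⟨k, hk⟩ := h1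
  refine ⟨e.symm k, fun u => e.injective ?_⟩
  have := DFunLike.congr_fun hk (e u)
  simp only [MulAut.conj_apply, MulAut.congr_apply, MulEquiv.trans_apply, MulEquiv.symm_apply_apply]
    at this
  simp [← this]

/-- With a single class of involutions, two non-commuting involutions of the extraspecial group
have a product of order four. -/
theorem eq_one_of_one_class {Q : Subgroup H} {z s : H} (h : ES Q z)
    (hs : s ∈ Q) (h1 : s ≠ 1) (hz : s ≠ z) (ss : s * s = 1)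
    (h2 : ∀ a b : H, orderOf a = 2 → orderOf b = 2 → IsConj a b) (k : H) (kk : k * k = 1)
    (h6 : ∀ g, (k * (g * k * g⁻¹)) ^ 6 = 1) : k = 1 := by
  by_contra k1
  obtain ⟨a, ha, aa, e⟩ : ∃ a ∈ Q, a * a = 1 ∧ a * s ≠ s * a := by
    obtain ⟨y, hy, e⟩ := h.exists_noncomm hs h1 hz
    rcases h.sq_mem hy with f | f
    · exact ⟨y, hy, f, e⟩
    · refine ⟨y * s, mul_mem hy hs, ?_, fun g => e (by rw [← mul_assoc] at g; exact mul_right_cancel g)⟩
      calc y * s * (y * s) = y * (s * y) * s := by group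
        _ = y * y * s * (z * s) := by rw [(h.comm s hs y hy).resolve_left (Ne.symm e)]; group
        _ = 1 := by rw [← h.central s hs, ← mul_assoc, mul_assoc _ s s, ss, f, mul_one, h.sq]
  have a1 : a ≠ 1 := by rintro rfl; simp at e
  obtain ⟨u, hu⟩ := isConj_iff.1 (h2 k a (orderOf_eq_two_of kk k1) (orderOf_eq_two_of aa a1))
  obtain ⟨v, hv⟩ := isConj_iff.1 (h2 k s (orderOf_eq_two_of kk k1) (orderOf_eq_two_of ss h1))
  have e1 : (a * s) ^ 6 = 1 := by
    rw [← hu, ← hv, show u * k * u⁻¹ * (v * k * v⁻¹) =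
      u * (k * (u⁻¹ * v * k * (u⁻¹ * v)⁻¹)) * u⁻¹ by group, conj_pow, h6]; group
  have e2 : (a * s) ^ 2 = z := by
    calc (a * s) ^ 2 = a * (s * a) * s := by rw [pow_two]; group
      _ = a * a * s * (z * s) := by rw [(h.comm s hs a ha).resolve_left (Ne.symm e)]; group
      _ = z := by rw [← h.central s hs, ← mul_assoc, mul_assoc _ s s, ss, aa, mul_one, one_mul]
  rw [show 6 = 2 * 3 from rfl, pow_mul, e2, pow_succ, pow_two, h.sq, one_mul] at e1
  exact h.ne_one e1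

/-- Every 2-element is conjugate into the centralizer of `z`. -/
theorem exists_conj_cent [Finite H] {Q : Subgroup H} {z : H} (h : L3 Q z) {k : H} {n : ℕ}
    (kk : k ^ 2 ^ n = 1) : ∃ g, g * k * g⁻¹ * z = z * (g * k * g⁻¹) := by
  obtain ⟨P, hP⟩ := h.isPGroup.exists_le_sylow
  have : Nontrivial P := ⟨⟨⟨z, hP h.mem⟩, 1, fun e => h.ne_one (congrArg Subtype.val e)⟩⟩
  have := P.isPGroup'.center_nontrivial
  obtain ⟨x, hx⟩ := exists_ne (1 : center P)
  have hc : ∀ y ∈ (P : Subgroup H), y * x.1.1 = x.1.1 * y := fun y hy =>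
    congrArg Subtype.val (mem_center_iff.1 x.2 ⟨y, hy⟩)
  rw [(h.cent _ fun q hq => hc q (hP hq)).resolve_left fun e =>
    hx (Subtype.ext (Subtype.ext e))] at hc
  obtain ⟨P', hP'⟩ := (isPGroup_of_pow (Q := zpowers k) (p := 2) n (by
    rintro _ ⟨m, rfl⟩
    simp only; rw [← zpow_natCast, ← zpow_mul, mul_comm, zpow_mul, zpow_natCast, kk, one_zpow])).exists_le_sylow
  obtain ⟨g, rfl⟩ := MulAction.exists_smul_eq H P' P
  exact ⟨g, hc _ ⟨k, hP' (mem_zpowers k), rfl⟩⟩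

theorem eq_one_of_five [Finite H] {Q : Subgroup H} {z g : H} (h : L3 Q z)
    (hs : g * z * g⁻¹ ∈ Q) (hz : g * z * g⁻¹ ≠ z) (k : H) (kk : k * k = 1)
    (h5 : ∀ g, (k * (g * k * g⁻¹)) ^ 5 = 1) : k = 1 := by
  obtain ⟨u, hu⟩ := exists_conj_cent h (n := 1) (k := k) (by rwa [pow_one, pow_two])
  have k2 : u * k * u⁻¹ * (u * k * u⁻¹) = 1 := by rw [conj_mul, kk]; group
  have key : ∀ q, u * k * u⁻¹ * (q * (u * k * u⁻¹) * q⁻¹) ∈ Q →
      q * (u * k * u⁻¹) = u * k * u⁻¹ * q := fun q hq => by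
    have e : (u * k * u⁻¹ * (q * (u * k * u⁻¹) * q⁻¹)) ^ 5 = 1 := by
      rw [show u * k * u⁻¹ * (q * (u * k * u⁻¹) * q⁻¹) =
        u * (k * (u⁻¹ * q * u * k * (u⁻¹ * q * u)⁻¹)) * u⁻¹ by group, conj_pow, h5]; group
    rw [pow_succ, h.pow_four hq, one_mul] at e
    exact mul_inv_eq_iff_eq_mul.1 (mul_left_cancel (e.trans k2.symm))
  rcases h.cent (u * k * u⁻¹) fun q hq => key q (by
    have := mul_mem (conj_mem_of_normalizer (h.norm _ hu) hq) (inv_mem hq)
    rwa [inv_eq_of_mul_eq_one_right k2, mul_assoc, mul_assoc, ← mul_assoc q] at this) with e | e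
  · exact conj_eq_one_iff.1 e
  · rw [e] at key
    exact absurd (mul_inv_eq_iff_eq_mul.2 (key g (mul_mem h.mem hs))) hz

end H39.MS
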