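import Mathlib
import Cfsg.Agent.Lib.MonType.Std

/-!
Groups of Monster type: elements of order 3 and 5 of the joint centralizer of `z` and a cross which
are inverted by a conjugate of a short involution.
-/

set_option autoImplicit false

namespace H39.MS

open Cfsg Subgroup H16 H95 H15 H96.Geo.M24

theorem prod_of_codes {s c a b : ℕ}
    (h : (inM24 s && inM24 a && inM24 b && okP (invP a) && okP (invP b) && mulP a (invP a) == idP &&
      mulP b (invP b) == idP &&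
      mulP (mulP (mulP a s) (invP a)) (mulP (mulP b s) (invP b)) == c) = true)
    {σ : M24} (hσ : ∀ h : permOf s ∈ M24, IsConj ⟨permOf s, h⟩ σ) {τ : M24} (hτ : τ.1 = permOf c) :
    ∃ a b : M24, a * σ * a⁻¹ * (b * σ * b⁻¹) = τ := by
  simp only [Bool.and_eq_true, beq_iff_eq] at h
  obtain ⟨⟨⟨⟨⟨⟨⟨hs, ha⟩, hb⟩, ia⟩, ib⟩, ea⟩, eb⟩, e⟩ := h
  obtain ⟨k, rfl⟩ := isConj_iff.1 (hσ (permOf_mem_M24 hs))
  have os := (inM24_iff.1 hs).1
  have oa := (inM24_iff.1 ha).1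
  have ob := (inM24_iff.1 hb).1
  refine ⟨⟨_, permOf_mem_M24 ha⟩ * k⁻¹, ⟨_, permOf_mem_M24 hb⟩ * k⁻¹, Subtype.ext ?_⟩
  rw [hτ, ← e, permOf_mulP (okP_mulP (okP_mulP oa os) ia) (okP_mulP (okP_mulP ob os) ib),
    permOf_mulP (okP_mulP oa os) ia, permOf_mulP (okP_mulP ob os) ib, permOf_mulP oa os,
    permOf_mulP ob os, ← permOf_inv_of_mul oa ia ea, ← permOf_inv_of_mul ob ib eb]
  simp only [coe_mul, coe_inv]
  group

theorem m24_prod {σ : M24} (h2 : σ * σ = 1) (h1 : σ ≠ 1) {τ : M24}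
    (hτ : τ.1 = permOf c3A ∨ τ.1 = permOf c3B ∨ τ.1 = permOf c5A) :
    ∃ a b : M24, a * σ * a⁻¹ * (b * σ * b⁻¹) = τ := by
  obtain ⟨c, hc, o, -, hj⟩ := M24_class σ
  rw [orderOf_eq_two_of h2 h1] at o
  have ec : c.c = c2A ∨ c.c = c2B := by revert hc o; generalize c = c; revert c; decide +kernel
  rcases ec with e | e <;> rw [e] at hj <;> rcases hτ with h | h | h
  · exact prod_of_codes (a := 218828277003114458310183067763890837)
      (b := 423984107123830650314954930838973621) (by decide +kernel) hj h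
  · exact prod_of_codes (a := 596103823840037552330105702266395700)
      (b := 727138578110213575523416531569913974) (by decide +kernel) hj h
  · exact prod_of_codes (a := 262869009272523020929145306291424651)
      (b := 596680865021965056486572459084558564) (by decide +kernel) hj h
  · exact prod_of_codes (a := 308549137060647699330224868693171792)
      (b := 113433778160018167601836030227428549) (by decide +kernel) hj h
  · exact prod_of_codes (a := 853710352816327436610500861819595952)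
      (b := 670093168375850770066665464559973578) (by decide +kernel) hj h
  · exact prod_of_codes (a := 362936628134773708521095135377893031)
      (b := 259819351190659467982252685968841869) (by decide +kernel) hj h

/-- A proper sign change is conjugate to a monomial map which moves the coordinates. -/
theorem eps_conj {c : Finset GolayPt} (hc : c ∈ code) (h0 : c ≠ ∅) (h1 : c ≠ Finset.univ) :
    ∃ (δ : Co0) (σ : Equiv.Perm GolayPt) (hσ : σ ∈ M24) (d : Finset GolayPt) (hd : d ∈ code),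
      σ ≠ 1 ∧ δ * eps c hc * δ⁻¹ = mono σ hσ d hd := by
  obtain ⟨i, hi, j, hj, ij⟩ : ∃ i ∈ c, ∃ j ∈ c, i ≠ j := Finset.one_lt_card.1 (by
    by_contra h; exact h0 (eq_empty_of_card_lt hc (by omega)))
  obtain ⟨k, hk, l, hl, kl⟩ : ∃ i ∈ cᶜ, ∃ j ∈ cᶜ, i ≠ j := Finset.one_lt_card.1 (by
    by_contra h
    exact h1 (by simpa using eq_empty_of_card_lt (compl_mem_code hc) (by omega)))
  rw [Finset.mem_compl] at hk hl
  have ik : i ≠ k := fun e => hk (e ▸ hi)
  have il : i ≠ l := fun e => hl (e ▸ hi)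
  have jk : j ≠ k := fun e => hk (e ▸ hj)
  have jl : j ≠ l := fun e => hl (e ▸ hj)
  let u : leechLattice := ⟨_, four_add_four_mem i j 1 1 (by norm_num)⟩
  let w : leechLattice := ⟨_, four_add_four_mem k l 1 1 (by norm_num)⟩
  have eu : eps c hc • u = -u := Subtype.ext (funext fun p => by
    rw [eps_smul_apply]
    split_ifs with h
    · rfl
    · have a : p ≠ i := fun e => h (e ▸ hi)
      have b : p ≠ j := fun e => h (e ▸ hj)
      simp [u, a, b])
  have ew : eps c hc • w = w := Subtype.ext (funext fun p => by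
    rw [eps_smul_apply]
    split_ifs with h
    · have a : p ≠ k := fun e => hk (e ▸ h)
      have b : p ≠ l := fun e => hl (e ▸ h)
      simp [w, a, b]
    · rfl)
  have nu : sqNorm (u : GolayPt → ℤ) = 32 := sqNorm_single_add ij _ _
  have nw : sqNorm (w : GolayPt → ℤ) = 32 := sqNorm_single_add kl _ _
  have duw : dotInt (u : GolayPt → ℤ) w = 0 := by
    have := dotInt_co0 (eps c hc) u w
    rw [eu, ew, AddSubgroup.coe_neg, H16.dotInt_neg_left] at this
    omega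
  have nv : sqNorm ((u + w : leechLattice) : GolayPt → ℤ) = 64 := by
    rw [AddSubgroup.coe_add, sqNorm_add, nu, nw, duw]; norm_num
  obtain ⟨δ, y, hy, e⟩ := Cfsg.Agent.S5593.result (u + w) (e8 none) nv (sqNorm_e8 _)
  have c1 : Cg (δ • (u + w)) (e8 none) := (mem_twoLeech _).2 ⟨y, hy, e⟩
  have ev : (δ * eps c hc * δ⁻¹) • δ • (u + w) = δ • (-u + w) := by
    rw [mul_smul, mul_smul, inv_smul_smul, smul_add (eps c hc), eu, ew]
  obtain ⟨σ, hσ, d, hd, em⟩ : δ * eps c hc * δ⁻¹ ∈ monoGroup := mem_monoGroup_iff_cg.2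
    (((c1.symm.smul _).trans (ev ▸ (Cg.smul (cg_iff.2 ⟨-u, by abel⟩) δ))).trans c1)
  refine ⟨δ, σ, hσ, d, hd, ?_, em⟩
  rintro rfl
  obtain ⟨m, hm⟩ := eq_e8_of_congr ((sqNorm_co0 δ _).trans nv) c1
  have : δ • (-u + w) = δ • (u + w) ∨ δ • (-u + w) = -(δ • (u + w)) := by
    rw [← ev, em]
    have q : mono 1 hσ d hd • e8 m = e8 m ∨ mono 1 hσ d hd • e8 m = -e8 m := by
      rw [mono_smul_e8]; split_ifs
      exacts [Or.inr rfl, Or.inl rfl]
    rcases hm with f | f <;> rw [f]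
    · exact q
    · rw [smul_neg, neg_inj, neg_inj]; exact q
  rw [← smul_neg, smul_left_cancel_iff, smul_left_cancel_iff] at this
  rcases this with f | f
  · have := congrFun (congrArg Subtype.val f) i
    simp [u, w, ij, ik, il] at this
  · have := congrFun (congrArg Subtype.val f) k
    simp [u, w, kl, ik.symm, jk.symm] at this

variable {G : Type*} [Group G] {z : G} {Q : Subgroup G} {φ : centralizer ({z} : Set G) →* Spor.Co1}
  {cls : leechLattice → G → Prop} {s : G}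

theorem exists_swap [Finite G] (M : Mon z Q φ cls) (hs : cls (e8 none) s) (hc : IsConj z s) :
    ∃ h : G, h * z * h⁻¹ = s ∧ h * s * h⁻¹ = z := by
  have hne : s ≠ z := fun e => Mon.not_cg_zero (Or.inr (sqNorm_e8 none))
    ((M.cg_zero_iff hs).2 (Or.inr e))
  obtain ⟨g, eg⟩ := isConj_iff.1 hc
  have p := M.pair (eg ▸ M.mem hs) (eg ▸ hne)
  obtain ⟨v, hv, nv⟩ := M.norm64_of_isConj (mem_map_conj.1 p.zQ)
    (isConj_iff.2 ⟨g⁻¹, by rw [inv_inv]⟩) fun e => hne (by rw [← eg]; nth_rewrite 1 [← e]; group)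
  obtain ⟨c, hcz, ec⟩ := M.conj_of_norm64 hs hv (sqNorm_e8 _) nv
  refine ⟨g * c, ?_, ?_⟩
  · rw [← eg, mul_assoc g, mem_cent_iff.1 hcz]; group
  · rw [show g * c * s * (g * c)⁻¹ = g * (c * s * c⁻¹) * g⁻¹ by group, ec]; group

/-- A conjugate of a short involution whose image is monomial and moves the coordinates. -/
theorem exists_mono_invol [Finite G] (M : Mon z Q φ cls) (hs : cls (e8 none) s) (hc : IsConj z s) :
    ∃ (x : centralizer ({z} : Set G)) (t : G) (v : leechLattice), cls v t ∧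
      sqNorm (v : GolayPt → ℤ) = 32 ∧ IsConj t x ∧
      ∃ (σ : Equiv.Perm GolayPt) (hσ : σ ∈ M24) (d : Finset GolayPt) (hd : d ∈ code), σ ≠ 1 ∧
        (QuotientGroup.mk (mono σ hσ d hd) : Spor.Co1) = φ x := by
  have hne : s ≠ z := fun e => Mon.not_cg_zero (Or.inr (sqNorm_e8 none))
    ((M.cg_zero_iff hs).2 (Or.inr e))
  obtain ⟨h, h1, h2⟩ := exists_swap M hs hc
  have p := M.pair (h1 ▸ M.mem hs) (h1 ▸ hne)
  rw [h1] at p
  have key : ∀ v t, cls v t → sqNorm (v : GolayPt → ℤ) = 32 → t * s = s * t → h * t * h⁻¹ ∉ Q →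
      ∃ (x : centralizer ({z} : Set G)) (t : G) (v : leechLattice), cls v t ∧
      sqNorm (v : GolayPt → ℤ) = 32 ∧ IsConj t x ∧
      ∃ (σ : Equiv.Perm GolayPt) (hσ : σ ∈ M24) (d : Finset GolayPt) (hd : d ∈ code), σ ≠ 1 ∧
        (QuotientGroup.mk (mono σ hσ d hd) : Spor.Co1) = φ x := by
    intro v t ht nv c hq
    have hz : h * t * h⁻¹ ∈ centralizer ({z} : Set G) := mem_cent_iff.2 (by
      rw [← h2, conj_mul, conj_mul, c])
    obtain ⟨γ, hγ⟩ := QuotientGroup.mk_surjective (φ ⟨_, hz⟩)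
    obtain ⟨c, hc, rfl⟩ := M.imgN_le p hs (mem_imgN.2 ⟨⟨_, hz⟩, ⟨t, M.mem ht, rfl⟩, hγ⟩)
    obtain ⟨δ, σ, hσ, d, hd, h1, e⟩ := eps_conj hc
      (by rintro rfl; exact hq ((M.ker ⟨_, hz⟩).1 (by rw [← hγ, eps_empty]; rfl)))
      (by
        rintro rfl
        exact hq ((M.ker ⟨_, hz⟩).1 (hγ.symm.trans
          ((QuotientGroup.eq_one_iff _).2 negCo0_mem_center))))
    obtain ⟨k, hk⟩ := M.exists_lift δ
    refine ⟨k * ⟨_, hz⟩ * k⁻¹, t, v, ht, nv, isConj_iff.2 ⟨k * h, ?_⟩, σ, hσ, d, hd, h1, ?_⟩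
    · simp only [coe_mul, coe_inv]; group
    · rw [← e, map_mul, map_mul, map_inv, ← hk, ← hγ]; rfl
  obtain ⟨a, ha⟩ := M.ex_elt vOct
  obtain ⟨b, hb⟩ := M.ex_elt (tab4 [0,0,0,4,4] (by decide +kernel))
  by_cases qa : h * a * h⁻¹ ∈ Q
  · by_cases qb : h * b * h⁻¹ ∈ Q
    · exfalso
      have ma : h * a * h⁻¹ ∈ Q ⊓ Q.map (MulAut.conj h).toMonoidHom := ⟨qa, a, M.mem ha, rfl⟩
      have mb : h * b * h⁻¹ ∈ Q ⊓ Q.map (MulAut.conj h).toMonoidHom := ⟨qb, b, M.mem hb, rfl⟩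
      have := p.E_elementary (mul_mem ma mb)
      rw [conj_mul, conj_mul, conj_eq_one_iff, M.sq_iff (M.add ha hb)] at this
      revert this; decide +kernel
    · exact key _ b hb (by decide +kernel) ((M.commute_iff hb hs).2 (by decide +kernel)) qb
  · exact key _ a ha (by decide +kernel) ((M.commute_iff ha hs).2 (by decide +kernel)) qa

theorem exists_inv [Finite G] (M : Mon z Q φ cls) (hs : cls (e8 none) s) (hc : IsConj z s)
    (X : G → Prop) (hX : ∀ x y, X x → IsConj x y → X y)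
    (h32 : ∀ v x, cls v x → sqNorm (v : GolayPt → ℤ) = 32 → X x)
    (h6 : ∀ x y, X x → X y → (x * y) ^ 60 = 1) :
    ∃ Λ : centralizer ({z, s} : Set G) →* M24, Function.Surjective Λ ∧ IsPGroup 2 Λ.ker ∧
      ∀ τ : M24, (τ.1 = permOf c3A ∨ τ.1 = permOf c3B ∨ τ.1 = permOf c5A) →
        ∃ (b : centralizer ({z, s} : Set G)) (x : G), Λ b = τ ∧ Odd (orderOf b) ∧ X x ∧ x * x = 1 ∧
          x * b * x⁻¹ = (b : G)⁻¹ := by
  obtain ⟨ρ, hρ⟩ := exists_monoPerm
  have ρp : ∀ σ : M24, ρ ⟨permHom σ, permHom_mem σ⟩ = σ := fun σ => hρ σ σ.2 ∅ empty_mem_code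
  have ρn : ρ ⟨negCo0, negCo0_mem⟩ = 1 := hρ 1 (one_mem _) _ univ_mem_code
  have ρk : ∀ γ, ρ γ = 1 → γ * γ = 1 := by
    rintro ⟨_, σ, hσ, c, hc, rfl⟩ h
    obtain rfl : σ = 1 := congrArg Subtype.val ((hρ σ hσ c hc).symm.trans h)
    exact Subtype.ext (eps_mul_self hc)
  have hθ : ∀ δ ε : monoGroup,
      (QuotientGroup.mk (δ : Co0) : Spor.Co1) = QuotientGroup.mk (ε : Co0) → ρ δ = ρ ε := by
    intro δ ε e
    rcases mk_eq_mk.1 e with e | e
    · rw [Subtype.ext e]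
    · rw [show ε = δ * ⟨negCo0, negCo0_mem⟩ from Subtype.ext e, map_mul, ρn, mul_one]
  have hl : ∀ b : centralizer ({z, s} : Set G), ∃ γ : monoGroup,
      (QuotientGroup.mk (γ : Co0) : Spor.Co1) = φ ⟨b, mem_cent_iff.2 (mem_cent_pair.1 b.2).1⟩ := by
    intro b
    obtain ⟨γ, hγ, e⟩ := (M.map_cent_eq hs).le ⟨⟨b, mem_cent_iff.2 (mem_cent_pair.1 b.2).1⟩,
      ⟨mem_cent_iff.2 (mem_cent_pair.1 b.2).1, mem_cent_iff.2 (mem_cent_pair.1 b.2).2⟩, rfl⟩
    exact ⟨⟨γ, hγ⟩, e⟩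
  choose f hf using hl
  refine ⟨MonoidHom.mk' (fun b => ρ (f b)) fun x y => ?_, fun σ => ?_, ?_, fun τ hτ => ?_⟩
  · rw [← map_mul]
    refine hθ _ _ ?_
    rw [coe_mul, QuotientGroup.mk_mul, hf, hf, hf, ← map_mul]; rfl
  · obtain ⟨c, hc, e⟩ := (M.map_cent_eq hs).ge ⟨permHom σ, permHom_mem σ, rfl⟩
    refine ⟨⟨c, mem_cent_pair.2 ⟨mem_cent_iff.1 c.2, mem_cent_iff.1 hc.2⟩⟩, ?_⟩
    exact (hθ _ ⟨_, permHom_mem σ⟩ ((hf _).trans e)).trans (ρp σ)
  · refine isPGroup_of_pow 3 fun b hb => Subtype.ext ?_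
    have h1 := congrArg (fun γ : monoGroup => (QuotientGroup.mk (γ : Co0) : Spor.Co1)) (ρk _ hb)
    simp only [coe_mul, QuotientGroup.mk_mul, hf, ← map_mul] at h1
    have h2 := M.h.pow_four ((M.ker _).1 h1)
    rw [coe_mul, ← pow_two, ← pow_mul] at h2
    exact h2
  obtain ⟨x, t, v, ht, nv, tx, σ, hσ, d, hd, h1, e⟩ := exists_mono_invol M hs hc
  have xx : x * x = 1 := by
    obtain ⟨g, hg⟩ := isConj_iff.1 tx
    exact Subtype.ext (by
      rw [coe_mul, ← hg, conj_mul, (M.sq_iff ht).2 (nv ▸ dvd_rfl), mul_one, mul_inv_cancel]; rfl)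
  let μ : monoGroup := ⟨_, mono_mem hσ hd⟩
  have σσ : ρ μ * ρ μ = 1 := by
    rw [← map_mul, ← map_one ρ]
    refine hθ _ _ ?_
    rw [coe_mul, QuotientGroup.mk_mul, e, ← map_mul, xx, map_one]; rfl
  obtain ⟨a, b, eτ⟩ := m24_prod σσ (fun h => h1 (congrArg Subtype.val ((hρ σ hσ d hd).symm.trans h))) hτ
  obtain ⟨a', ha, ea⟩ := (M.map_cent_eq hs).ge ⟨permHom a, permHom_mem a, rfl⟩
  obtain ⟨b', hb, eb⟩ := (M.map_cent_eq hs).ge ⟨permHom b, permHom_mem b, rfl⟩
  -- conjugates of `x` under the joint centralizer all act on `s` as `x` does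
  have hxs : (x : G) * s * (x : G)⁻¹ = s ∨ (x : G) * s * (x : G)⁻¹ = s * z :=
    (M.eq_iff hs (M.smul x _ e hs)).1 (mem_monoGroup_iff_cg.1 μ.2).symm
  have cs : ∀ g : centralizer ({z} : Set G), (g : G) ∈ centralizer ({s} : Set G) →
      ((g * x * g⁻¹ : centralizer ({z} : Set G)) : G) * s *
        ((g * x * g⁻¹ : centralizer ({z} : Set G)) : G)⁻¹ = x * s * (x : G)⁻¹ := by
    intro g hg
    have g1 := mem_cent_iff.1 hg
    have g2 := mem_cent_iff.1 g.2
    have : ((g * x * g⁻¹ : centralizer ({z} : Set G)) : G) * s *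
        ((g * x * g⁻¹ : centralizer ({z} : Set G)) : G)⁻¹ =
          g * (x * ((g : G)⁻¹ * (s * g)) * (x : G)⁻¹) * (g : G)⁻¹ := by
      simp only [coe_mul, coe_inv]; group
    rw [this, ← g1, inv_mul_cancel_left]
    rcases hxs with f | f <;> rw [f]
    · rw [g1]; group
    · rw [← mul_assoc, g1, mul_assoc s, g2]; group
  set x₁ := a' * x * a'⁻¹ with hx₁
  set x₂ := b' * x * b'⁻¹ with hx₂
  have s1 : x₁ * x₁ = 1 := by rw [hx₁, conj_mul, xx]; simp
  have s2 : x₂ * x₂ = 1 := by rw [hx₂, conj_mul, xx]; simp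
  have X1 : X x₁ := hX _ _ (h32 _ _ ht nv) (tx.trans (isConj_iff.2 ⟨a', rfl⟩))
  have X2 : X x₂ := hX _ _ (h32 _ _ ht nv) (tx.trans (isConj_iff.2 ⟨b', rfl⟩))
  have mem : ((x₁ * x₂ : centralizer ({z} : Set G)) : G) ∈ centralizer ({z, s} : Set G) := by
    refine mem_cent_pair.2 ⟨mem_cent_iff.1 (x₁ * x₂).2, mul_inv_eq_iff_eq_mul.1 ?_⟩
    have : (x₂ : G) * s * (x₂ : G)⁻¹ = (x₁ : G)⁻¹ * s * (x₁ : G)⁻¹⁻¹ := by
      rw [show (x₁ : G)⁻¹ = x₁ from congrArg Subtype.val (inv_eq_of_mul_eq_one_right s1), cs _ hb.2,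
        cs _ ha.2]
    rw [coe_mul, mul_inv_rev, show (x₁ : G) * x₂ * s * ((x₂ : G)⁻¹ * (x₁ : G)⁻¹) =
      x₁ * (x₂ * s * (x₂ : G)⁻¹) * (x₁ : G)⁻¹ by group, this]
    group
  have τ16 : τ ^ 16 = τ := by
    have : τ ^ 15 = 1 := by
      rcases hτ with h | h | h <;> refine Subtype.ext ?_ <;> rw [coe_pow, h] <;>
        exact permOf_pow_eq_one (by decide +kernel) (by decide +kernel)
    rw [pow_succ, this, one_mul]
  refine ⟨⟨_, mem⟩ ^ 16, x₁, ?_, ?_, X1, congrArg Subtype.val s1, ?_⟩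
  · rw [map_pow, ← τ16, ← eτ]
    congr 1
    change ρ (f _) = _
    rw [← ρp a, ← ρp b]
    simp only [← map_inv, ← map_mul]
    refine hθ _ _ ((hf _).trans ?_)
    change φ (x₁ * x₂) = _
    simp only [hx₁, hx₂, map_mul, map_inv, ea, eb, ← e, coe_mul, coe_inv, QuotientGroup.mk_mul,
      QuotientGroup.mk_inv]
    rfl
  · refine Odd.of_dvd_nat (n := 15) (by decide) (orderOf_dvd_of_pow_eq_one (Subtype.ext ?_))
    rw [← pow_mul, show 16 * 15 = 60 * 4 from rfl, pow_mul, coe_pow, coe_pow]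
    exact (congrArg (· ^ 4) (h6 _ _ X1 X2)).trans (one_pow 4)
  · rw [coe_pow, ← conj_pow, ← inv_pow]
    congr 1
    exact congrArg Subtype.val (show x₁ * (x₁ * x₂) * x₁⁻¹ = (x₁ * x₂)⁻¹ by
      rw [← mul_assoc, s1, one_mul, mul_inv_rev x₁, inv_eq_of_mul_eq_one_right s2])

end H39.MS
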