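import Mathlib
import Cfsg.Agent.Lib.MSub.Inv
import Cfsg.Agent.Lib.MSub.Gen
import Cfsg.Agent.Lib.MonType.Simple
import Cfsg.Agent.Lib.MonOrd.Order

/-!
The automorphism group of the Griess algebra: elements of order 3 and 5 inverted by a transposition.
-/

set_option autoImplicit false

namespace H39.MS

open Cfsg Subgroup H16 H95 H95.Gr H15 H96.Geo.M24

section
variable {G : Type*} [Group G]

theorem ofMon [Finite G] {z : G} {Q : Subgroup G} {φ : centralizer ({z} : Set G) →* Spor.Co1}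
    {cls : leechLattice → G → Prop} (M : Mon z Q φ cls) {g : G} (hs : g * z * g⁻¹ ∈ Q)
    (hne : g * z * g⁻¹ ≠ z) : IsOfMonsterType z φ.ker := by
  obtain rfl : φ.ker.map (centralizer ({z} : Set G)).subtype = Q := by
    ext y
    exact ⟨fun ⟨c, hc, e⟩ => e ▸ (M.ker c).1 hc,
      fun h => ⟨⟨y, M.h.le_centralizer h⟩, (M.ker _).2 h, rfl⟩⟩
  have := isSimple_Co1
  let ν : ∀ {v : leechLattice} {a : G}, cls v a → φ.ker := fun {_ a} ha =>
    ⟨⟨a, M.h.le_centralizer (M.mem ha)⟩, (M.ker _).2 (M.mem ha)⟩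
  have hν : ∀ {v w : leechLattice} {a b : G} (ha : cls v a) (hb : cls w b),
      (QuotientGroup.mk (ν ha) : _ ⧸ center _) = QuotientGroup.mk (ν hb) ↔ Cg v w :=
    fun ha hb => by rw [M.h.toES.mk_eq_mk_center, M.eq_iff ha hb]
  choose l hl using M.ex_elt
  refine ⟨setting_of_L3 M.h (pCore_le_ker M.surj
    (pCore_eq_bot_of_simple (S := Spor.Co1) (by rw [card_Co1]; norm_num)))
    ((card_map_cent _).symm.trans M.card) hs hne,
    QuotientGroup.quotientKerEquivOfSurjective φ M.surj, fun v => QuotientGroup.mk (ν (hl v)),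
    fun v w => (hν (hl _) (M.add (hl v) (hl w))).2 (Cg.refl _), fun y => ?_, fun v => ?_,
    fun h γ hγ v q hq => ?_⟩
  · obtain ⟨q, rfl⟩ := QuotientGroup.mk_surjective y
    obtain ⟨v, hv⟩ := M.ex_cls _ (mem_map_of_mem _ q.2)
    exact ⟨v, (hν (hl v) hv).2 (Cg.refl _)⟩
  · exact (hν (hl v) M.cls_zero).trans (cg_iff.trans (by simp only [zero_add]))
  · obtain ⟨w, hw⟩ := M.ex_cls _ (mem_map_of_mem _ q.2)
    exact (hν (hl _) (M.smul h γ hγ hw)).2 (((hν (hl v) hw).1 hq).smul γ)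

theorem cent_zp (y : G) : centralizer (zpowers y : Set G) = centralizer {y} := by
  rw [zpowers_eq_closure, centralizer_closure]

theorem normal_zp (y : G) : ((zpowers y).subgroupOf (centralizer (zpowers y : Set G))).Normal :=
  ⟨fun n hn g => by
    have : (g : G) * n * (g : G)⁻¹ = n := mul_inv_eq_iff_eq_mul.2 (g.2 n hn).symm
    change (g : G) * n * (g : G)⁻¹ ∈ zpowers y
    rwa [this]⟩

theorem exists_quot (y : G) [((zpowers y).subgroupOf (centralizer (zpowers y : Set G))).Normal]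
    {H : Type*} [Group H] (e : centralizer (zpowers y : Set G) ⧸
      (zpowers y).subgroupOf (centralizer (zpowers y : Set G)) ≃* H) :
    ∃ f : centralizer ({y} : Set G) →* H, Function.Surjective f ∧
      ∀ c, f c = 1 ↔ (c : G) ∈ zpowers y :=
  ⟨e.toMonoidHom.comp ((QuotientGroup.mk' _).comp
      (MulEquiv.subgroupCongr (cent_zp y).symm).toMonoidHom),
    e.surjective.comp ((QuotientGroup.mk'_surjective _).comp (MulEquiv.surjective _)),
    fun _ => e.map_eq_one_iff.trans (QuotientGroup.eq_one_iff _)⟩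

theorem card_cent [Finite G] {y : G} {H : Type*} [Group H] {f : centralizer ({y} : Set G) →* H}
    (hs : Function.Surjective f) (hk : ∀ c, f c = 1 ↔ (c : G) ∈ zpowers y) :
    Nat.card (centralizer ({y} : Set G)) = orderOf y * Nat.card H := by
  have e : f.ker = (zpowers y).subgroupOf _ := Subgroup.ext hk
  rw [← card_mul_index f.ker, index_ker, MonoidHom.range_eq_top.2 hs, card_top, e,
    Nat.card_congr (subgroupOfEquivOfLe (zpowers_le.2 (self_mem_cent y))).toEquiv, Nat.card_zpowers]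

theorem center_eq_bot {S : Type*} [Group S] [Finite S] [IsSimpleGroup S] (h : 6 ∣ Nat.card S) :
    center S = ⊥ := by
  refine (Normal.eq_bot_or_eq_top inferInstance).resolve_right fun e => ?_
  let _ : CommGroup S := Group.commGroupOfCenterEqTop e
  have := (IsSimpleGroup.prime_card (α := S)).eq_one_or_self_of_dvd
  rcases this 2 (Dvd.dvd.trans (by norm_num) h) with f | f <;>
    rcases this 3 (Dvd.dvd.trans (by norm_num) h) with g | g <;> omega

end

theorem card_cent_cls {e : H96.Geo.Cl} (he : e ∈ H96.Geo.M24.cls) (h : permOf e.c ∈ M24) :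
    Nat.card (centralizer ({⟨permOf e.c, h⟩} : Set M24)) = e.z := by
  rw [← table.cent e he, ← card_map_of_injective (K := centralizer {_}) M24.subtype_injective]
  congr 2
  ext x
  constructor
  · rintro ⟨y, hy, rfl⟩
    exact ⟨y.2, mem_cent_iff.2 (congrArg Subtype.val (mem_cent_iff.1 hy))⟩
  · rintro ⟨h, h'⟩
    exact ⟨⟨x, h⟩, mem_cent_iff.2 (Subtype.ext (mem_cent_iff.1 h')), rfl⟩

/-- the standard cross -/
noncomputable def s0 : GG := (mon.ex_elt (e8 none)).choose

theorem cls_s0 : Gr.cls (e8 none) s0 := (mon.ex_elt (e8 none)).choose_spec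

theorem conj_s0 : IsConj zA s0 := iz_of_cls cls_s0 (sqNorm_e8 _)

theorem s0_ne : s0 ≠ zA := fun e => Mon.not_cg_zero (Or.inr (sqNorm_e8 none))
  ((mon.cg_zero_iff cls_s0).2 (Or.inr e))

theorem s0_mem : ∃ h : s0 ∈ centralizer ({zA} : Set GG),
    (⟨s0, h⟩ : centralizer ({zA} : Set GG)) ∈ phi.ker :=
  ⟨mon.h.le_centralizer (mon.mem cls_s0), (mon.ker _).2 (mon.mem cls_s0)⟩

theorem monT : IsOfMonsterType (zA : GG) phi.ker := by
  obtain ⟨g, e⟩ := isConj_iff.1 conj_s0
  exact ofMon mon (e ▸ mon.mem cls_s0) (e ▸ s0_ne)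

theorem six {x : GG} (hx : IX x) (g g' : GG) : orderOf (g * x * g⁻¹ * (g' * x * g'⁻¹)) ≤ 6 :=
  IX.order_le (hx.conj g) (hx.conj g')

theorem exists_inv' : ∃ Λ : centralizer ({zA, s0} : Set GG) →* M24, Function.Surjective Λ ∧
    IsPGroup 2 Λ.ker ∧ ∀ τ : M24, (τ.1 = permOf c3A ∨ τ.1 = permOf c3B ∨ τ.1 = permOf c5A) →
      ∃ (b : centralizer ({zA, s0} : Set GG)) (x : GG), Λ b = τ ∧ Odd (orderOf b) ∧ IX x ∧
        x * x = 1 ∧ x * b * x⁻¹ = (b : GG)⁻¹ :=
  exists_inv mon cls_s0 conj_s0 IX (fun _ _ h e => IsConj.trans h e)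
    (fun _ _ h n => by
      obtain ⟨c, -, e⟩ := mon.conj_of_norm32 cls_t0 h (by decide +kernel) n
      exact isConj_of_conj e)
    fun x y hx hy => by
      have h1 := IX.order_le hx hy
      have h0 := orderOf_pos (x * y)
      rw [← orderOf_dvd_iff_pow_eq_one]
      generalize orderOf (x * y) = r at *
      interval_cases r <;> decide

/-- A simple subgroup of the centralizer of a transposition embeds in the Baby Monster. -/
theorem exists_BM {x : GG} (hx : IX x) {L : Subgroup GG} (hL : L ≤ centralizer {x})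
    [IsSimpleGroup L] (h : Nat.card L ≠ 2) : ∃ K : Subgroup BM, Nonempty (L ≃* K) := by
  obtain ⟨g, rfl⟩ := hx.ex
  let f : L →* HH := ((cj g⁻¹).toMonoidHom.comp L.subtype).codRestrict HH fun c => by
    have := mem_cent_iff.1 (hL c.2)
    rw [mem_HH]
    change g⁻¹ * c * g⁻¹⁻¹ * t0 * (g⁻¹ * c * g⁻¹⁻¹)⁻¹ = t0
    rw [show g⁻¹ * c * g⁻¹⁻¹ * t0 * (g⁻¹ * c * g⁻¹⁻¹)⁻¹ = g⁻¹ * (c * cj g t0) * (c : GG)⁻¹ * g by
      rw [cj_apply]; group, this, cj_apply]
    group
  have hf : ∀ c : L, (f c : GG) = 1 → c = 1 := fun c e =>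
    Subtype.ext ((cj g⁻¹).map_eq_one_iff.1 e)
  refine ⟨_, ⟨MonoidHom.ofInjective (f := piB.comp f) ((MonoidHom.ker_eq_bot_iff _).1 ?_)⟩⟩
  refine (Normal.eq_bot_or_eq_top inferInstance).resolve_right fun e => h ?_
  have key : ∀ c : L, c ≠ 1 → (f c : GG) = t0 := fun c hc =>
    (piB_eq_one.1 (e.ge (mem_top c))).resolve_left fun q => hc (hf c q)
  obtain ⟨a, ha⟩ := exists_ne (1 : L)
  refine (Nat.card_eq_two_iff' 1).2 ⟨a, ha, fun b hb => ?_⟩
  exact Subtype.ext ((cj g⁻¹).injective ((key b hb).trans (key a ha).symm))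

end H39.MS
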