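import Mathlib
import Cfsg.Agent.Lib.MSub.HT1
import Cfsg.Agent.Lib.MonType.C5A
import Cfsg.Agent.Lib.MonType.Std

/-!
Groups of Monster type: coordinates for the centralizer of an element of order five.
-/

set_option autoImplicit false
set_option maxRecDepth 100000
set_option exponentiation.threshold 700

namespace H39.MS

open Cfsg Subgroup H16 H15 H95 H96.Geo.M24

/-- a basis of the fixed classes -/
def E5 : List ℕ := [0x1100110011000f000f001100110013001100110013001100150011000f00110011000f0011001100110011000f000f,
  0x12001000100010001000100010000e0010001200160012001200100010001000100010001200100010001200100010,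
  0x11000f0011000f000f00110011000d000f001100130011000f0011000f0011000f000f0011000f000f00110015000f,
  0x11000f001100110011001100110013000f001100150011000f001100110011000f00110011000f000f001100130011,
  0x10001000120012001200120012001200100010000c0010000e00120012001200100012001000100010001000100012,
  0x12001000100012001200100010001000100012000c00120012001000120010001000120012001000100012000e0012,
  0x1000120010001200120010001000100012001000120010000e001000120010001200120010001200120010000c0012,
  0x10001000120012001200120012000e00100010001000100012001200120012001000120010001000100010000c0012]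
/-- lifts of the generators -/
def G5 : List ℕ := [0xe000e00100012000e00100010000e000e000e001000120010001000120010000e000e000e0012000e001200100012000e0012001000120012001000100012000e000e0010000e00100010000e0010000e000e000e000e001200120010000e0010001000120010001000120012001000100010000e0010000e000a00100012001000100010001000100010001200100012000e001000120012001000100012000e000e0010001200100010001200100012000e0012000e0012000e00100012000e000e0010000e001200100010001200120012001000120010001000120010000e0012000e000e0012001200100012001000100012001000100012000a001000100010000e0010000e001200100012001000100010001000100010001200100010001000120010001000120012001000100010000e0010000e00120010000a00100010001000100010001000120010000e001200100012001200100010000e0012000e0010000e001000100012001000120012000e00120012000e00100012000e000e00100012000e0010001000120012000e0010001200100010000e001000120012000e000e000e000e0010000e001200120010000e001200100010000e000e000e0010001200100010000e0010000e0012000e000e000e000e0010001200100010000e00100010000e000e001000100010001200100012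000e0010000e00100010001000100010001000160010000e000e0010000e001200100010000e000e000e0010000e0010001000120010001200120012000e000e00120010000e00100010000e00100010000e000e00100010001000120010000a000e0010000e001000100010001000100010000e001000100010001200100010000a0012001000100010000e0010000e00120010001200100010001000100010001000120010000e0012001000120012001000100012000e0012001000120010001000120010000e001200120012000e000e0010000e00100010000a0010001000120012001000100010000e0010000e00120010001200100010001000100010001000120010000e00120010000e000e001000100012000e00120010000e00100010001200100012000e000e000e000e000e001000120012000e001000120012001000100012000e00120010000e00100010000e001000120012000e0012000e0012001000120012000e00100012001200100010000e001200120010000e0010001000120010000e000e000e000e000e000e0010000e000e000e0010000e00120010001000120012000e0010000e00100010000e0010000e000e00120012000e000e001000120012000e0010000e000e001000100012000e000e0010000e0010001000120010000e0012000e00120012000e0010000e000e000e00100012000e00100010000e000e00120010000e00100010000e0010000e00120012000e0012000e00100012001000100012001000100012001200100010001000160010000e001200100012001000100010001000100010001200100012001200100012000e0010001000120012000e0010000e0010001000120010000e00120012000e000e001200100012,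
  0xd0013000f0013000f000f000f0011000f00110011000d0011000f0013000f000f000f0011000f000f0011000f000f0011000f000f000f000f000f00130011000f0011000d000d0011000f000f000f000f000f0011000f00130011000f0013000f00110011000d000d0011000d000f000d000f000f000f000f000d0011001100110011000f00110011000f001100110011000f0013000f000f000f000f0011001300110011000d0011000f000f0013000f000f000d000f000f0011000f000f00110013000f000f000f000f00130011000f000d001100110011000f000f0013000f000f0011000f000f000d000f000f000f0011000d001100110011000d000f0011000f000f000f000f0011000d0011000d000d000f00110011000f00110011000f001100110011001100110011000f0011000f000f000f000f000d000d000d00110011000f000d0011000f0011000d0011000f000f000f000f000f000f000d000f001100110011000d000f000f000f000f000f0011000f000f0011000b000f000d000f000f000f0013000f000f0011000f0011000d00110011000f000f00130013000f0011000f000f0011000f000f000d000f000f000f000f000f000f00110013000d001100110011000f000f000f000f00130011000f000f0011000f0013000f000d00110011001100110011000f000d000f000f000f000f001100110011000d0011000f000d000d000f0011001100110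00f000f000f0013000f000f0011000f00110011000d0011000f000f000f000f001300110013000f000d000f000f000f00110011001100110011001100130011000f000f000f000b00110011001100110011000f00110011000f000d0011000f00110011000d0011000d0011000f0011000f000f000f000f00110011000d0011000d000f0011000d000f001100110011000f000f000f000f0013000f0011000f000d0011000d00110013000f000f0013000f0011000f000f0011000f000f000f000d000d0011000d000d0011000f0011000f000f000f000f00110011001100110011000f00110011000f0011000d00110013000f000f000f000f000f0011000f0011000d001100110013000f000f000f0013000d000f000f0011000f000f000d000f0013000f000f000f000f0011000f00110011001100110013000f000f000f000f0011000f0013000d000f000f0011000f000f000f0013000f000f0011000f000d001100110011000f0013000f000f000f000d000f00130011000f000f0011000f000f000f000f0013000f001100130011000d00110011000f0013000f000f000f0011000f000f000d000f000f0011000f00130013000f000f000f0011000f000d000d00110011000f000f000f000f000f00110013000f0011000f000f0011000f000f0013000f000f000f0011000f0011001100110011000f000f000f0013000f000d000f000f000d000f0013000f001100110011001100110011000b0011000f000f000f001300110011001100110011000f00110011000f000d0011000d000f000f000f000f001300130011000f0011001100110011000f000f000f000f000f000d0013000f0011000f000f,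
  0x100010000e000e000e0012000e000e0010001000100010000e0012001200120014001200100010001000100010000e001000100012000e00120012000e00120010001000100010000e0012000e000e00100012000c001000100010001000120012000e0010000c00100010001000100012000e000e000e0010001000100010000e00100012000e0012000e0012001000120012001400100010001000100010000e00120012000e0010001000100010001200100012000e000e000e001200100012000e001000100010001000100010000e0012001200120010001000100014000e0010000e00120012000e00120010000e000e001000100010001000100010000e000e000e001200100010000c00100012001000120012000e000e0012001000120012001000100010001000100010000e000e000e000e0010001000100010000e0010000e0012000e00120012000c0012000e001000100010001000100010000e0012000e0012000c001000100010000e00100012000e000e0012000e001000100010000e001200120012001200120010001000100010000e00120012000e0010000e001000100010000c0010000e001000100012000e000e00120012000e0010001000100010000e000e0012000e0010000e001000140010001000100012001000100012000e000e001200120012001000100010001000120012000e00120010000e0010001000100010000c000e0010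001000120012000e000e0012000e0010001000100010000e0012000e000e0010001200100010001400100010000e0012001200100010001000100010001400120012000e0012001000100010001000120010001200120012001200120010000e000e001000100010001000100010000e0012000e000e00100010001000100012000c000e000e0012001200120010000e0012001000100010001400100010000e000e001200120010001000100010000e00100012000e0012001200120010000e001200100010000c00100010001000120012000e00120010001000100010000e0010000e000e000e000e00120010000c00100012000e0012000e001200120010001000100010000e000e001200120010001200100010001000100010000e000e000e001000100010001000100010001200120012000e0010001400100010000e001000120012000e00120012001000100014000e000e0012000e0012000e0010001000100010000e0012000e00120010000e0010001000100010001000120010001000120012000e000e000e00120010000c00100010000e0012001200120010000e00100010001000100010001200100010000e0012000e001200120012001000100010000c000e000e000e001200100012001000100010001000100012001000100012001200120012000e000e0014001000100010000e000e000e00120010000e00100010001000100010000e00100010000e000e000e000e000e00120010001000140010000e000e000e000e0010000e00100010001000100010000e0012000e0010001000100010001400100012000e00120012001000100010001000120010000e000e000e001200120010]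
/-- a short vector -/
def r65 : ℕ := 0x11000f00110011001100110011000f000f0011000d0011000f001100110011000f00110011000f000f0011000f0011
/-- a short vector -/
def r69 : ℕ := 0x1000100010001200120010001000120010001000120010001000100012001000100012001000100010001000120012
/-- the norm of a sum -/
def nrm : List ℕ → ℤ := List.rec 0 fun a L ih => dotC a a + ih + 2 * (L.map (dotC a)).sum

theorem c_E : ∀ a ∈ E5, isV a = true ∧ dotC a a = 64 ∧
    zs [app (matR (permM c5A)) a, a] = true := by decide +kernel
theorem c_sel : ∀ j < 8, E5.getD j 0 ∈ E5 ∧ selL E5 (2 ^ j) = [E5.getD j 0] := by decide +kernel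
theorem c_G : ∀ i < 3, okM (G5.getD i 0) = true ∧
    mulM (G5.getD i 0) (permM c5A) = mulM (permM c5A) (G5.getD i 0) ∧ (∀ a < 256, gn i a < 256) ∧
    ∀ j < 8, zs (app (matR (G5.getD i 0)) (E5.getD j 0) :: selL E5 (gn i (2 ^ j))) = true := by
  decide +kernel
theorem c_nrm : ∀ a < 256, nrm (selL E5 a) % 32 = 0 ↔ qf a = 0 := by decide +kernel
theorem c_inj : ∀ a < 256, (∀ b < 256, qf (a ^^^ b) = 0 ↔ qf b = 0) → a = 0 := by decide +kernel
theorem c_r : ∀ p ∈ [(r65, 65), (r69, 69)], isV p.1 = true ∧ dotC p.1 p.1 = 32 ∧
    zs (p.1 :: selL E5 p.2) = true := by decide +kernel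

theorem nrm_eq : ∀ L : List ℕ, (∀ a ∈ L, isV a = true) →
    sqNorm (((L.map lv).sum : leechLattice) : GolayPt → ℤ) = nrm L := by
  have k : ∀ a, isV a = true → ∀ L : List ℕ, (∀ a ∈ L, isV a = true) →
      dotInt (lv a : GolayPt → ℤ) ((L.map lv).sum : leechLattice) = (L.map (dotC a)).sum := by
    intro a ha L hL
    induction L with
    | nil => simp [dotInt_def]
    | cons b L ih =>
      rw [List.map_cons, List.sum_cons, AddSubgroup.coe_add, dotInt_add_right,
        ih fun c hc => hL c (List.mem_cons_of_mem _ hc), List.map_cons, List.sum_cons,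
        (code_lv ha).dot (code_lv (hL b List.mem_cons_self))]
  intro L hL
  induction L with
  | nil => exact sqNorm_zero'
  | cons b L ih =>
    have hb := hL b List.mem_cons_self
    have hL' := fun c hc => hL c (List.mem_cons_of_mem _ hc)
    rw [List.map_cons, List.sum_cons, AddSubgroup.coe_add, sqNorm_add, ih hL', k b hb L hL',
      (code_lv hb).norm]
    rfl

theorem sel_add : ∀ (L : List ℕ) (a b : ℕ), ((selL L (a ^^^ b)).map clsC).sum =
    ((selL L a).map clsC).sum + ((selL L b).map clsC).sum
  | [], _, _ => (add_zero _).symm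
  | e :: L, a, b => by
    have k : ∀ m, ((selL (e :: L) m).map clsC).sum =
        (if m % 2 = 1 then clsC e else 0) + ((selL L (m / 2)).map clsC).sum := fun m => by
      change (List.map clsC (Bool.rec (selL L (m / 2)) (e :: selL L (m / 2))
        (Nat.beq (m % 2) 1) : List ℕ)).sum = _
      rcases Nat.mod_two_eq_zero_or_one m with h | h <;> rw [h] <;> simp [Nat.beq]
    rw [k, k, k, Nat.xor_div_two, sel_add L, add_add_add_comm]
    congr 1
    simp only [Nat.xor_mod_two_eq_one]
    by_cases h : a % 2 = 1 <;> by_cases h' : b % 2 = 1 <;> simp [h, h', L2_add_self]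

/-- the vector with a given code -/
noncomputable def vv (a : ℕ) : leechLattice := ((selL E5 a).map lv).sum

theorem mk_vv (a : ℕ) : mk2 (vv a) = ((selL E5 a).map clsC).sum := by
  rw [vv, map_list_sum, List.map_map]; rfl

theorem vv_add (a b : ℕ) : mk2 (vv (a ^^^ b)) = mk2 (vv a) + mk2 (vv b) := by
  simp only [mk_vv, sel_add]

theorem vv_norm {a : ℕ} (h : a < 256) : (32 : ℤ) ∣ sqNorm (vv a : GolayPt → ℤ) ↔ qf a = 0 := by
  rw [vv, nrm_eq _ fun b hb => (c_E b (selL_sub _ _ _ hb)).1, Int.dvd_iff_emod_eq_zero, c_nrm a h]

theorem vv_zero {a : ℕ} (h : a < 256) : mk2 (vv a) = 0 ↔ a = 0 := by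
  refine ⟨fun e => c_inj a h fun b hb => ?_, by rintro rfl; exact map_zero _⟩
  rw [← vv_norm (Nat.xor_lt_two_pow (n := 8) h hb), ← vv_norm hb]
  exact (dvd_iff_dvd_of_dvd_sub (mk2_eq.1 (by rw [vv_add, e, zero_add])).norm_dvd)

theorem vv_inj {a b : ℕ} (ha : a < 256) (hb : b < 256) (e : mk2 (vv a) = mk2 (vv b)) : a = b :=
  Nat.eq_of_xor_eq_zero ((vv_zero (Nat.xor_lt_two_pow (n := 8) ha hb)).1
    (by rw [vv_add, e, L2_add_self]))

theorem eq_of_add {x y : L2} (h : x + y = 0) : x = y := by
  rw [← add_zero x, ← L2_add_self y, ← add_assoc, h, zero_add]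

theorem vv_act {P : ℕ} {g : Co0} (hg : IsM P g) {f : ℕ → ℕ} (hf : Lin f)
    (h : ∀ j < 8, zs (app (matR P) (E5.getD j 0) :: selL E5 (f (2 ^ j))) = true) :
    ∀ a < 256, g • mk2 (vv a) = mk2 (vv (f a)) := by
  intro a
  induction a using Nat.strong_induction_on with
  | _ a ih =>
    intro ha
    rcases (show ∀ a < 256, a = 0 ∨ ∃ j < 8, a ^^^ 2 ^ j < a by decide +kernel) a ha with
      rfl | ⟨j, hj, e⟩
    · rw [show f 0 = 0 by simpa using hf 0 0, (vv_zero ha).2 rfl, smul_zero]
    · have := ih _ e (by omega)
      rw [← Nat.xor_xor_cancel_right a (2 ^ j)]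
      generalize a ^^^ 2 ^ j = d at this
      rw [hf, vv_add, vv_add, smul_add, this]
      congr 1
      have := zs_spec (h j hj)
      obtain ⟨h1, h2, -⟩ := c_E _ (c_sel j hj).1
      have c := code_lv h1
      rw [List.map_cons, List.sum_cons, ← mk_vv, clsC,
        (hg.isR.app c (by rw [c.norm, h2]; norm_num)).lv_eq] at this
      rw [← eq_of_add this, mk_vv, (c_sel j hj).2]
      simp [clsC, smul_mk2]

theorem vv_fix : ∀ a < 256, γ5A • mk2 (vv a) = mk2 (vv a) :=
  vv_act (isM_perm in5A) (f := id) (fun _ _ => rfl) fun j hj => by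
    rw [id, (c_sel j hj).2]; exact (c_E _ (c_sel j hj).1).2.2

theorem vv_surj {x : L2} (h : γ5A • x = x) : ∃ a < 256, mk2 (vv a) = x := by
  obtain ⟨θ, D⟩ := data5A
  have : (fun a => mk2 (vv a)) '' (Finset.range 256 : Finset ℕ) = {x : L2 | γ5A • x = x} :=
    Set.eq_of_subset_of_ncard_le (by
      rintro _ ⟨a, ha, rfl⟩; exact vv_fix a (by simpa using ha)) (by
      rw [D.card, Set.InjOn.ncard_image (fun a ha b hb =>
        vv_inj (by simpa using ha) (by simpa using hb)), Set.ncard_coe_finset]; simp)
  obtain ⟨a, ha, e⟩ := this.ge h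
  exact ⟨a, by simpa using ha, e⟩

theorem vv_short {p : ℕ × ℕ} (hp : p ∈ [(r65, 65), (r69, 69)]) :
    Cg (vv p.2) (lv p.1) ∧ sqNorm (lv p.1 : GolayPt → ℤ) = 32 := by
  obtain ⟨h1, h2, h3⟩ := c_r p hp
  have := zs_spec h3
  rw [List.map_cons, List.sum_cons, ← mk_vv] at this
  exact ⟨mk2_eq.1 (eq_of_add this).symm, (code_lv h1).norm.trans h2⟩

theorem vv_four : sqNorm (vv 4 : GolayPt → ℤ) = 64 := by
  rw [vv, nrm_eq _ fun b hb => (c_E b (selL_sub _ _ _ hb)).1]; decide +kernel

variable {G : Type*} [Group G] [Finite G]

theorem isConj_of_L3 {Q Q' : Subgroup G} {z z' : G} (h : L3 Q z) (h' : L3 Q' z') :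
    ∃ g, g * z * g⁻¹ = z' := by
  obtain ⟨P, hP⟩ := h.isPGroup.exists_le_sylow
  have : Nontrivial P := ⟨⟨⟨z, hP h.mem⟩, 1, fun e => h.ne_one (congrArg Subtype.val e)⟩⟩
  have := P.isPGroup'.center_nontrivial
  obtain ⟨x, hx⟩ := exists_ne (1 : center P)
  have hc : ∀ y ∈ (P : Subgroup G), y * x.1.1 = x.1.1 * y := fun y hy =>
    congrArg Subtype.val (mem_center_iff.1 x.2 ⟨y, hy⟩)
  rw [(h.cent _ fun q hq => hc q (hP hq)).resolve_left fun e =>
    hx (Subtype.ext (Subtype.ext e))] at hc
  obtain ⟨P', hP'⟩ := h'.isPGroup.exists_le_sylow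
  obtain ⟨g, rfl⟩ := MulAction.exists_smul_eq G P P'
  refine ⟨g, (h'.cent _ fun q hq => ?_).resolve_left (h.map_conj g).ne_one⟩
  obtain ⟨y, hy, rfl⟩ := hP' hq
  change g * y * g⁻¹ * _ = _ * (g * y * g⁻¹)
  rw [conj_mul, conj_mul, hc y hy]

theorem exists_ht {z : G} {Q : Subgroup G} {φ : centralizer ({z} : Set G) →* Spor.Co1}
    {cls : leechLattice → G → Prop} (M : Mon z Q φ cls) {b : centralizer ({z} : Set G)}
    (hγ : (QuotientGroup.mk γ5A : Spor.Co1) = φ b) (ob : Odd (orderOf b)) {s : G} (hs : s ∈ Q)
    (hc : IsConj z s) (hne : s ≠ z) (hbs : (b : G) * s = s * b) {X : G → Prop}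
    (h1 : ∀ v x, cls v x → sqNorm (v : GolayPt → ℤ) = 32 → X x)
    (h2 : ∀ x g, X x → X (x * (g * z * g⁻¹)) → g⁻¹ * x * g ∈ Q) {B : Subgroup G}
    (hB : B = zpowers (b : G)) [(B.subgroupOf (centralizer (B : Set G))).Normal] :
    ∃ (y : centralizer (B : Set G) ⧸ B.subgroupOf (centralizer (B : Set G))) (R : Subgroup _)
      (c : _ → ℕ), HT y R c := by
  classical
  obtain ⟨θ, D⟩ := data5A
  have oγ : Odd (orderOf γ5A) := by rw [ord5A]; decide
  have hK : ∀ {x}, x ∈ centralizer (B : Set G) ↔ (b : G) * x = x * b := by
    intro x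
    rw [hB, zpowers_eq_closure, centralizer_closure, mem_cent_iff, eq_comm]
  have hodd : Odd (Nat.card B) := by rwa [hB, Nat.card_zpowers, orderOf_coe]
  have hz : z ∈ centralizer (B : Set G) := hK.2 (mem_cent_iff.1 b.2)
  have hBB : B ≤ centralizer (B : Set G) := by
    conv_lhs => rw [hB]
    exact zpowers_le.2 (hK.2 rfl)
  have hBz : B ≤ centralizer ({z} : Set G) := hB ▸ zpowers_le.2 b.2
  have hs1 : s ≠ 1 := fun e => M.h.ne_one (isConj_one_left.1 (e ▸ hc))
  have hR : ES (Q ⊓ centralizer (B : Set G)) z :=
    (M.h.toES.cent_odd (fun u hu => M.h.norm u (mem_cent_iff.1 (hBz hu))) hodd).resolve_left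
      fun e => by
        rcases M.h.toES.mem_zpowers.1 (e.le (mem_inf.2 ⟨hs, hK.2 hbs⟩)) with f | f
        exacts [hs1 f, hne f]
  have hL := M.h.quot_odd hodd hz hR (fun c hc hx => by
    have cz := mem_cent_iff.2 (hx z hR.mem).symm
    obtain ⟨δ, hδ⟩ := exists_cent_lift oγ (y := φ ⟨c, cz⟩) (by
      rw [hγ, ← map_mul, ← map_mul]; exact congrArg φ (Subtype.ext (hK.1 hc).symm))
    obtain ⟨n, hn⟩ := (D.ker δ).1 (D.faith _ fun x hxγ => by
      obtain ⟨v, rfl⟩ := mk2_surj x
      obtain ⟨a, ha⟩ := M.ex_elt v
      exact mk2_eq.2 (M.cg_of_comm ha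
        (hx a ⟨M.mem ha, hK.2 ((M.comm_iff_fix hγ ob ha).2 hxγ)⟩).symm hδ))
    refine ⟨(b : G) ^ n, hB ▸ zpow_mem (mem_zpowers _) n, (M.ker ((b ^ n)⁻¹ * ⟨c, cz⟩)).1 ?_⟩
    rw [map_mul, map_inv, map_zpow, inv_mul_eq_one, ← hγ, ← hδ]
    exact hn) hBB
  obtain ⟨y, Θ, s1, s2, -⟩ := M.odd_cent hγ ob oγ D pCore_wreath hs hc hne hbs hB
  set π := QuotientGroup.mk' (B.subgroupOf (centralizer (B : Set G))) with hπ
  set z' : centralizer (B : Set G) := ⟨z, hz⟩ with hz'
  have p4 : ∀ {x : centralizer (B : Set G)}, (x : G) ∈ Q → x ^ 4 = 1 := fun h =>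
    Subtype.ext (M.h.pow_four h)
  have z4 : z' ^ 4 = 1 := p4 M.h.mem
  let c := fun y => if h : ∃ a < 256, ∃ x, π x = y ∧ cls (vv a) x then h.choose else 0
  have hc1 : ∀ {a} {x : centralizer (B : Set G)}, a < 256 → cls (vv a) x → c (π x) = a := by
    intro a x ha hx
    have h : ∃ a < 256, ∃ x', π x' = π x ∧ cls (vv a) x' := ⟨a, ha, x, rfl, hx⟩
    obtain ⟨h3, x', e, h4⟩ := h.choose_spec
    obtain rfl := eq_of_mk_eq hodd (p4 (M.mem h4)) (p4 (M.mem hx)) e
    exact (dif_pos h).trans (vv_inj h3 ha (mk2_eq.2 ((M.eq_iff h4 hx).2 (Or.inl rfl))))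
  have mk : ∀ {x : centralizer (B : Set G)}, (x : G) ∈ Q → π x ∈ ((Q ⊓ centralizer (B : Set G)).subgroupOf
      (centralizer (B : Set G))).map π := fun {x} h => ⟨x, ⟨h, x.2⟩, rfl⟩
  have el : ∀ {y}, y ∈ ((Q ⊓ centralizer (B : Set G)).subgroupOf (centralizer (B : Set G))).map π →
      ∃ x, π x = y ∧ c y < 256 ∧ cls (vv (c y)) x := by
    rintro _ ⟨x, hx, rfl⟩
    obtain ⟨v, hv⟩ := M.ex_cls x hx.1
    obtain ⟨a, ha, e⟩ := vv_surj ((M.comm_iff_fix hγ ob hv).1 (hK.1 x.2))
    have := M.congr hv (mk2_eq.1 e.symm)
    exact ⟨x, rfl, by rwa [hc1 ha this], by rwa [hc1 ha this]⟩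
  have cj : ∀ {k x : centralizer (B : Set G)}, (x : G) ∈ Q → π k * π z' * (π k)⁻¹ = π x →
      (k : G) * z * (k : G)⁻¹ = x := fun {k x} hx e => congrArg Subtype.val
    (eq_of_mk_eq hodd (conj_pow_four k z4) (p4 hx) (by rw [map_mul, map_mul, map_inv]; exact e))
  refine ⟨π z', _, c, hL, fun y => ?_, fun a ha => ?_, fun hx hy => ?_, fun hx => ?_, fun hx => ?_,
    fun i hi => ?_, ?_, fun hx e => ?_, fun hx e f => ?_, fun {g t} hx e ht f => ?_⟩
  · by_cases h : ∃ a < 256, ∃ x, π x = y ∧ cls (vv a) x
    · exact (dif_pos h).trans_lt h.choose_spec.1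
    · exact (dif_neg h).trans_lt (by norm_num)
  · obtain ⟨x, hx⟩ := M.ex_elt (vv a)
    exact ⟨π ⟨x, hK.2 ((M.comm_iff_fix hγ ob hx).2 (vv_fix a ha))⟩, mk (M.mem hx), hc1 ha hx⟩
  · obtain ⟨x, rfl, a1, a2⟩ := el hx
    obtain ⟨y, rfl, b1, b2⟩ := el hy
    rw [← map_mul]
    exact hc1 (Nat.xor_lt_two_pow (n := 8) a1 b1)
      (M.congr (M.add a2 b2) (mk2_eq.1 (by rw [vv_add, map_add])))
  · obtain ⟨x, rfl, a1, a2⟩ := el hx
    rw [← vv_zero a1, ← map_zero mk2, eq_comm, mk2_eq, M.cg_zero_iff a2]
    exact or_congr ⟨fun e => by rw [show x = 1 from Subtype.ext e, map_one], fun e =>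
      congrArg Subtype.val (eq_of_mk_eq hodd (p4 (M.mem a2)) (one_pow 4) e)⟩
      ⟨fun e => congrArg π (Subtype.ext e), fun e =>
      congrArg Subtype.val (eq_of_mk_eq hodd (p4 (M.mem a2)) z4 e)⟩
  · obtain ⟨x, rfl, a1, a2⟩ := el hx
    rw [← vv_norm a1, ← M.sq_iff a2, ← map_mul]
    exact ⟨fun e => congrArg Subtype.val (eq_of_mk_eq hodd
      (p4 (mul_mem (M.mem a2) (M.mem a2))) (one_pow 4) e),
      fun e => by rw [show x * x = 1 from Subtype.ext e, map_one]⟩
  · obtain ⟨g1, g2, g3, g4⟩ := c_G i hi
    have m := isM_el g1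
    have m1 := m.mul (isM_perm in5A)
    rw [g2] at m1
    have hp : IsPGroup 2 φ.ker := isPGroup_of_pow 2 fun x hx =>
      Subtype.ext (M.h.pow_four ((M.ker x).1 hx))
    have h1 := H2.map_centralizer_of_surjective (A := zpowers b) φ M.surj
      (coprime_of_odd_of_isPGroup (by rwa [Nat.card_zpowers]) hp) (Or.inl (H2.isSolvable_zpowers b))
    rw [MonoidHom.map_zpowers, zpowers_eq_closure, zpowers_eq_closure, centralizer_closure,
      centralizer_closure] at h1
    obtain ⟨k, hk, e⟩ : (QuotientGroup.mk (H16.el (G5.getD i 0)) : Spor.Co1) ∈ (centralizer {b}).map φ := by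
      rw [h1, mem_cent_iff, ← hγ, ← QuotientGroup.mk_mul, γ5A, m1.eq_el ((isM_perm in5A).mul m)]; rfl
    refine ⟨π ⟨k, hK.2 (congrArg Subtype.val (mem_cent_iff.1 hk)).symm⟩, ?_, fun x hx => ?_⟩
    · rw [← map_mul, ← map_mul]; exact congrArg π (Subtype.ext (mem_cent_iff.1 k.2))
    · obtain ⟨x, rfl, a1, a2⟩ := el hx
      rw [← map_inv, ← map_mul, ← map_mul]
      exact hc1 (g3 _ a1) (M.congr (M.smul k _ e.symm a2)
        (mk2_eq.1 (vv_act m (lin_gn i) g4 _ a1)))
  · obtain ⟨l1, l2, -⟩ := L3_of_setting s2
    obtain ⟨g, rfl⟩ := isConj_of_L3 hL l1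
    have e := Θ.ker.card_mul_index
    rw [index_ker, MonoidHom.range_eq_top.2 s1, card_top, (good10.card ctx10 Kfix10).trans k5A_size,
      ← card_map_cent, l2] at e
    refine le_trans (Nat.card_le_card_of_injective (fun k => ⟨g * k * g⁻¹, mem_cent_iff.2 (by
      rw [conj_mul, conj_mul, mem_cent_iff.1 k.2])⟩) fun k l h => ?_) e.ge
    exact Subtype.ext (by simpa using h)
  · obtain ⟨x, rfl, a1, a2⟩ := el hx
    rw [e] at a2
    obtain ⟨g, f⟩ := isConj_iff.1 (M.isConj_of_norm64 hs hc hne a2 vv_four)
    obtain ⟨k, hk, ek⟩ := (M.pair (f ▸ M.mem a2) (f ▸ fun e => Mon.not_cg_zero (Or.inr vv_four)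
      ((M.cg_zero_iff a2).2 (Or.inr e)))).exists_conj_odd hodd hz (f ▸ x.2)
    refine isConj_of_conj (g := π ⟨k, hk⟩) ?_
    rw [← map_inv, ← map_mul, ← map_mul]
    exact congrArg π (Subtype.ext (ek.trans f))
  · obtain ⟨x, rfl, a1, a2⟩ := el hx
    rw [e] at a2
    obtain ⟨g, f⟩ := isConj_iff.1 f
    obtain ⟨k, rfl⟩ := QuotientGroup.mk'_surjective _ g
    obtain ⟨r1, r2⟩ := vv_short (p := (r65, 65)) List.mem_cons_self
    have a3 := M.congr a2 r1
    obtain ⟨v, hv, n⟩ := M.norm64_of_isConj (M.mem a2) (isConj_of_conj (cj (M.mem a2) f)) fun e =>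
      Mon.not_cg_zero (Or.inl r2) ((M.cg_zero_iff a3).2 (Or.inr e))
    have := ((M.eq_iff hv a3).2 (Or.inl rfl)).norm_eq n.le (by omega)
    omega
  · obtain ⟨x, f1, a1, a2⟩ := el hx
    obtain ⟨y, rfl, b1, b2⟩ := el ht
    obtain ⟨k, rfl⟩ := QuotientGroup.mk'_surjective _ g
    rw [e] at a2
    rw [f] at b2
    obtain ⟨r1, r2⟩ := vv_short (p := (r65, 65)) List.mem_cons_self
    obtain ⟨r3, r4⟩ := vv_short (p := (r69, 69)) (List.mem_cons_of_mem _ List.mem_cons_self)
    rw [← map_inv, ← map_mul, ← map_mul]
    refine mk (h2 y k (h1 _ _ (M.congr b2 r1) r2) (h1 _ _ (M.congr ?_ r3) r4))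
    rw [cj (M.mem a2) f1.symm]
    exact M.congr (M.add b2 a2) (mk2_eq.1 (by rw [map_add, ← vv_add]; rfl))

theorem eqns_HT5 : True := by
  have := @E5.eq_1
  have := @G5.eq_1
  have := @r65.eq_1
  have := @r69.eq_1
  have := @nrm.eq_1
  have := @vv.eq_1
  trivial

end H39.MS
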