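import Mathlib
import Cfsg.Agent.Lib.MSub.Mon
import Cfsg.Agent.Lib.MSub.HT4
import Cfsg.Agent.Lib.MSub.HT5
import Cfsg.Agent.S2082
import Cfsg.Agent.S1701

/-!
The Harada-Norton group in the automorphism group of the Griess algebra.
-/

set_option autoImplicit false

namespace H39.MS

open Cfsg Subgroup H16 H95 H95.Gr H15 H96.Geo.M24

theorem five_aux {G : Type*} [Group G] {b n x : G} (b5 : b ^ (5 : ℤ) = 1)
    (hn : n * b * n⁻¹ = b ^ (2 : ℤ)) (hi : x * b * x⁻¹ = b⁻¹) :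
    n⁻¹ * b * n = b ^ (3 : ℤ) ∧ x * (n * n)⁻¹ * b = b * (x * (n * n)⁻¹) := by
  have hn' : n⁻¹ * b * n⁻¹⁻¹ = b ^ (3 : ℤ) := cj_inv (by
    rw [← conj_zpow, hn, ← zpow_mul, show (2 * 3 : ℤ) = 5 + 1 by norm_num, zpow_add, b5]; simp)
  refine ⟨by simpa using hn', ?_⟩
  rw [← mul_inv_eq_iff_eq_mul]
  calc _ = x * (n⁻¹ * (n⁻¹ * b * n⁻¹⁻¹) * n⁻¹⁻¹) * x⁻¹ := by simp [mul_assoc]
    _ = b := by
      rw [hn', ← conj_zpow, hn', ← zpow_mul, ← conj_zpow, hi, inv_zpow, ← zpow_neg,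
        show (-(3 * 3) : ℤ) = 5 * (-2) + 1 by norm_num, zpow_add, zpow_mul, b5]
      simp

theorem exists_sq {G T : Type*} [Group G] [Finite G] [Group T] {K : Subgroup G} {Λ : K →* T}
    (h1 : Function.Surjective Λ) (h2 : IsPGroup 2 Λ.ker) {b : K} (ob : Odd (orderOf b))
    (h : IsConj (Λ b) (Λ (b ^ 2))) : ∃ n : G, n * b * n⁻¹ = (b : G) ^ (2 : ℤ) := by
  obtain ⟨m, hm⟩ := isConj_iff.1 h
  obtain ⟨m, rfl⟩ := h1 m
  obtain ⟨k, hk⟩ := exists_conj_of_map_eq h2 (a := m * b * m⁻¹) (b := b ^ 2)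
    (by rwa [← MulAut.conj_apply, MulEquiv.orderOf_eq]) (ob.of_dvd_nat (orderOf_pow_dvd _))
    (by rw [map_mul, map_mul, map_inv, hm])
  exact ⟨k * m, by rw [zpow_ofNat, ← coe_pow, ← hk]; simp [mul_assoc]⟩

theorem inner_sq {G H : Type*} [Group G] [Group H] {y n x : G} {f : centralizer ({y} : Set G) →* H}
    {α : MulAut H} {l : ℤ} {h : n⁻¹ * y * n = y ^ l}
    (hα : ∀ c, α (f c) = f ⟨n * c * n⁻¹, conj_mem_cent h c.2⟩) {k : H}
    (hk : ∀ u, (α ^ 2) u = k * u * k⁻¹) (hd : x * (n * n)⁻¹ * y = y * (x * (n * n)⁻¹)) :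
    ∃ k : H, ∀ (c : centralizer ({y} : Set G)) (hc : x * c * x⁻¹ ∈ centralizer ({y} : Set G)),
      f ⟨x * c * x⁻¹, hc⟩ = k * f c * k⁻¹ := by
  refine ⟨f ⟨_, mem_cent_iff.2 hd⟩ * k, fun c hc => ?_⟩
  have := hk (f c)
  rw [pow_two, MulAut.mul_apply, hα, hα] at this
  rw [show ∀ d, d * k * f c * (d * k)⁻¹ = d * (k * f c * k⁻¹) * d⁻¹ from fun d => by group, ← this,
    ← map_inv, ← map_mul, ← map_mul]
  exact congrArg f (Subtype.ext (by simp [mul_assoc]))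

theorem exists_HN : ∃ (y x : GG) (L : Subgroup GG), orderOf y = 5 ∧ IX x ∧
    L ≤ centralizer {y} ∧ L ≤ centralizer {x} ∧ IsHN L ∧ Spor.IsoHN L := by
  obtain ⟨Λ', -, h2', h3⟩ := exists_inv'
  have : Fact (Nat.Prime 5) := ⟨by norm_num⟩
  obtain ⟨b, x, eb, ob, hx, xx, hi⟩ := h3 ⟨permOf c5A, permOf_mem_M24 in5A⟩ (Or.inr (Or.inr rfl))
  have o5 : orderOf b = 5 := by
    rw [← orderOf_map_of_odd h2' ob, eb, orderOf_mk]
    exact (H96.Geo.orderOf_permOf (by decide +kernel)).trans (by decide +kernel)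
  have o5' : orderOf (b : GG) = 5 := (orderOf_coe b).trans o5
  obtain ⟨Λ, h1, h2, h3⟩ := mon.exists_toM24 cls_s0
  have cl : ∀ a : centralizer ({zA, s0} : Set GG), orderOf a = 5 →
      IsConj ⟨permOf c5A, permOf_mem_M24 in5A⟩ (Λ a) := fun a oa => by
    obtain ⟨c, hc, o, -, hj⟩ := M24_class (Λ a)
    rw [orderOf_map_of_odd h2 (by rw [oa]; decide), oa] at o
    have ec : c.c = c5A := by revert hc o; generalize c = c; revert c; decide +kernel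
    rw [ec] at hj
    exact hj _
  have o2 : orderOf (b ^ 2) = 5 := by rw [Nat.Coprime.orderOf_pow (by rw [o5]; decide), o5]
  obtain ⟨n, hn⟩ := exists_sq h1 h2 ob ((cl b o5).symm.trans (cl _ o2))
  have b5 : (b : GG) ^ (5 : ℤ) = 1 := by rw [zpow_ofNat, ← o5', pow_orderOf_eq_one]
  obtain ⟨hn', hd⟩ := five_aux b5 hn hi
  have := normal_zp (b : GG)
  obtain ⟨δ, hδ⟩ := h3 b ob _ (cl b o5)
  obtain ⟨y, R, c, T⟩ := exists_ht (mon.twist δ) (b := ⟨b, mem_cent_iff.2 (mem_cent_pair.1 b.2).1⟩) hδ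
    (by rwa [orderOf_mk, orderOf_coe]) (mon.mem cls_s0) conj_s0 s0_ne (mem_cent_pair.1 b.2).2 (X := IX)
    (fun v x h e => by
      obtain ⟨c, -, e⟩ := mon.conj_of_norm32 cls_t0 h (by decide +kernel) ((sqNorm_co0 _ _).trans e)
      exact isConj_of_conj e)
    (fun x g h h' => mem_map_conj.1 (inQ_iff.1 (inQ_of_mul' h (iz_z.conj g) h'))) rfl
  obtain ⟨e⟩ := T.isoHN
  obtain ⟨hs, hc⟩ := Cfsg.Agent.S1701.result
  have hc' := (Nat.card_congr e.toEquiv).trans hc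
  have := T.simple
  obtain ⟨g, g1, g2⟩ := T.exists_conj_mem
  obtain ⟨f, sf, kf⟩ := exists_quot (b : GG) (MulEquiv.refl _)
  obtain ⟨α, hα⟩ := exists_aut sf kf hn' hn
  obtain ⟨k, hk⟩ := inner_of_out e Cfsg.Agent.S2082.result α
  obtain ⟨k', hk'⟩ := inner_sq (h := hn') hα hk hd
  obtain ⟨L, l1, l2, ⟨i⟩⟩ := exists_compl o5' (Or.inr ⟨rfl, rfl⟩) xx hi (six hx) sf kf
    (center_eq_bot (by rw [hc']; norm_num)) (fun c => hk' c _) (eq_one_of_five T.h g1 g2)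
  exact ⟨b, x, L, o5', hx, l1, l2, ⟨i.isSimpleGroup, (Nat.card_congr i.toEquiv).trans hc'⟩,
    ⟨i.trans e⟩⟩

end H39.MS
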